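import Groth.Agent.L24.St.FlatCover
import Groth.Agent.L24.Boot.LqfEtale

/-!
The relation space of a chart of a stack: sections as isomorphisms, and the three squares of composition.
-/

set_option autoImplicit false
set_option backward.isDefEq.respectTransparency false
set_option backward.isDefEq.respectTransparency.types false

universe u

open CategoryTheory CategoryTheory.Limits AlgebraicGeometry Opposite AlgSt

noncomputable section

namespace Groth.L24.Slice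

open Groth.L24.St

variable {S : Scheme.{u}} {𝒳 : AlgSt.Cat S} {U : Over S} (x : FibCat.overCat U ⥤ᵇ 𝒳)
  {P : AlgSp.Sp S} (e : ofSp P ⥤ᵇ FibCat.fp x x)

/-- A relation space of a chart with its composition squares. -/
structure Rel (P : AlgSp.Sp S) (U : Over S) where
  s : P ⟶ (AlgSp.yon S).obj U
  t : P ⟶ (AlgSp.yon S).obj U
  Q : AlgSp.Sp S
  p1 : Q ⟶ P
  p2 : Q ⟶ P
  δ : Q ⟶ P
  sq_s : IsPullback p1 p2 s s
  sq_δ : IsPullback p1 δ t s
  sq_t : IsPullback p2 δ t t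

/-- The two objects over identities of a slice are linked by at most one morphism over the identity. -/
theorem overId_ext {a b : Over U} {m m' : a ⟶ b} (h : OverId (𝒳 := FibCat.overCat U) m)
    (h' : OverId (𝒳 := FibCat.overCat U) m') : m = m' := by
  obtain ⟨_, h1⟩ := h.eq
  obtain ⟨_, h2⟩ := h'.eq
  exact Over.OverMorphism.ext (h1.trans h2.symm)

/-- An object over a scheme is the standard one of its structure map. -/
theorem exists_canon {a : Over U} {T : Over S} {g : T ⟶ U} (hT : a.left = T) (hg : eqToHom hT.symm ≫ a.hom = g) :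
    ∃ m : a ≅ Over.mk g, OverId (𝒳 := FibCat.overCat U) m.hom := by
  subst hT
  rw [eqToHom_refl, Category.id_comp] at hg
  subst hg
  exact ⟨Over.isoMk (Iso.refl _) (Category.id_comp _), OverId.of_eq rfl rfl⟩

/-- The section of the relation is the isomorphism `φ` between the pullbacks along `g₁` and `g₂`. -/
def IsArr {T : Over S} (a : P.obj.obj (op T)) (g₁ g₂ : T ⟶ U)
    (φ : x.obj (Over.mk g₁) ⟶ x.obj (Over.mk g₂)) : Prop :=
  ∃ (m₁ : (e.obj ⟨T, a⟩).obj.fst ≅ Over.mk g₁) (m₂ : (e.obj ⟨T, a⟩).obj.snd ≅ Over.mk g₂),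
    OverId (𝒳 := FibCat.overCat U) m₁.hom ∧ OverId (𝒳 := FibCat.overCat U) m₂.hom ∧
      x.map m₁.hom ≫ φ = (e.obj ⟨T, a⟩).obj.iso.hom ≫ x.map m₂.hom

theorem exists_isArr {T : Over S} (a : P.obj.obj (op T)) {g₁ g₂ : T ⟶ U}
    (h₁ : secHom (BasedFunctor.comp e (FibCat.fpFst x x)) ⟨T, a⟩ = g₁)
    (h₂ : secHom (BasedFunctor.comp e (FibCat.fpSnd x x)) ⟨T, a⟩ = g₂) :
    ∃ φ : x.obj (Over.mk g₁) ≅ x.obj (Over.mk g₂), OverId φ.hom ∧ IsArr x e a g₁ g₂ φ.hom := by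
  obtain ⟨m₁, hm₁⟩ := exists_canon ((BasedFunctor.comp e (FibCat.fpFst x x)).w_obj ⟨T, a⟩) h₁
  obtain ⟨m₂, hm₂⟩ := exists_canon ((BasedFunctor.comp e (FibCat.fpSnd x x)).w_obj ⟨T, a⟩) h₂
  let K := e.obj ⟨T, a⟩
  refine ⟨(x.toFunctor.mapIso m₁).symm ≪≫ K.obj.iso ≪≫ x.toFunctor.mapIso m₂,
    (hm₁.map x).inv (i := x.toFunctor.mapIso m₁) |>.comp ((fp_overId K).comp (hm₂.map x)), m₁, m₂, hm₁, hm₂, ?_⟩
  simp [K]

theorem secHom_of_isArr {T : Over S} {a : P.obj.obj (op T)} {g₁ g₂ : T ⟶ U} {φ} (h : IsArr x e a g₁ g₂ φ) :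
    secHom (BasedFunctor.comp e (FibCat.fpFst x x)) ⟨T, a⟩ = g₁ ∧
      secHom (BasedFunctor.comp e (FibCat.fpSnd x x)) ⟨T, a⟩ = g₂ := by
  obtain ⟨m₁, m₂, h₁, h₂, -⟩ := h
  constructor
  · obtain ⟨_, e₁⟩ := h₁.eq
    have w := Over.w m₁.hom
    rw [show m₁.hom.left = eqToHom _ from e₁] at w
    show eqToHom _ ≫ (e.obj ⟨T, a⟩).obj.fst.hom = g₁
    rw [← w, eqToHom_trans_assoc, eqToHom_refl]
    exact Category.id_comp _
  · obtain ⟨_, e₂⟩ := h₂.eq
    have w := Over.w m₂.hom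
    rw [show m₂.hom.left = eqToHom _ from e₂] at w
    show eqToHom _ ≫ (e.obj ⟨T, a⟩).obj.snd.hom = g₂
    rw [← w, eqToHom_trans_assoc, eqToHom_refl]
    exact Category.id_comp _

theorem isArr_unique {T : Over S} {a : P.obj.obj (op T)} {g₁ g₂ : T ⟶ U} {φ ψ}
    (h : IsArr x e a g₁ g₂ φ) (h' : IsArr x e a g₁ g₂ ψ) : φ = ψ := by
  obtain ⟨m₁, m₂, h₁, h₂, w⟩ := h
  obtain ⟨n₁, n₂, k₁, k₂, w'⟩ := h'
  rw [overId_ext k₁ h₁, overId_ext k₂ h₂, ← w] at w'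
  exact ((cancel_epi (x.map m₁.hom)).1 w').symm

variable {x e}

theorem eq_of_isArr (he : FibCat.IsEquivOver e) {T : Over S} {a b : P.obj.obj (op T)} {g₁ g₂ : T ⟶ U} {φ}
    (h : IsArr x e a g₁ g₂ φ) (h' : IsArr x e b g₁ g₂ φ) : a = b := by
  obtain ⟨m₁, m₂, h₁, h₂, w⟩ := h
  obtain ⟨n₁, n₂, k₁, k₂, w'⟩ := h'
  let f := m₁ ≪≫ n₁.symm
  let g := m₂ ≪≫ n₂.symm
  let i : e.obj ⟨T, a⟩ ≅ e.obj ⟨T, b⟩ := fpIsoMk f g (by
    show x.map (m₁.hom ≫ n₁.inv) ≫ _ = _ ≫ x.map (m₂.hom ≫ n₂.inv)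
    rw [Functor.map_comp, Functor.map_comp, ← reassoc_of% w, Category.assoc]
    congr 1
    rw [← cancel_mono (x.map n₂.hom), Category.assoc, Category.assoc, ← w', ← Functor.map_comp_assoc,
      ← Functor.map_comp, Iso.inv_hom_id, Iso.inv_hom_id, CategoryTheory.Functor.map_id,
      CategoryTheory.Functor.map_id, Category.id_comp, Category.comp_id])
  have hi : OverId i.hom := overId_fp _ (h₁.comp k₁.inv)
  obtain ⟨m, hm⟩ := (eqv_fullFaithful he).1.map_surjective i.hom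
  obtain ⟨h0, hh⟩ := hi.eq
  rw [← hm, p_map_map, show (ofSp P).p.map m = m.hom from rfl] at hh
  have hmid : m.hom = 𝟙 T := by
    rw [← cancel_epi (eqToHom (e.w_obj ⟨T, a⟩)), ← cancel_mono (eqToHom (e.w_obj ⟨T, b⟩).symm)]
    simp only [Category.assoc]
    exact hh.trans ((congrArg (eqToHom _ ≫ ·) (Category.id_comp _)).trans (eqToHom_trans _ _)).symm
  have := m.map_sec
  rw [hmid, op_id, CategoryTheory.Functor.map_id] at this
  exact this.symm

theorem exists_sec (he : FibCat.IsEquivOver e) {T : Over S} (g₁ g₂ : T ⟶ U)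
    (φ : x.obj (Over.mk g₁) ≅ x.obj (Over.mk g₂)) (hφ : OverId φ.hom) :
    ∃ a : P.obj.obj (op T), IsArr x e a g₁ g₂ φ.hom := by
  let η : (FibCat.fp x x).obj := fpObj (Over.mk g₁) (Over.mk g₂) φ hφ
  obtain ⟨⟨T', a⟩, i, hi⟩ := eqv_exists_overId he η
  obtain ⟨h0, -⟩ := hi.eq
  obtain rfl : T' = T := (e.w_obj ⟨T', a⟩).symm.trans h0
  refine ⟨a, ⟨i.hom.hom.fst, i.inv.hom.fst, congrArg (fun t => t.hom.fst) i.hom_inv_id,
    congrArg (fun t => t.hom.fst) i.inv_hom_id⟩, ⟨i.hom.hom.snd, i.inv.hom.snd,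
    congrArg (fun t => t.hom.snd) i.hom_inv_id, congrArg (fun t => t.hom.snd) i.inv_hom_id⟩,
    hi.map (FibCat.fpFst x x), hi.map (FibCat.fpSnd x x), i.hom.hom.w⟩

theorem secHom_congr (Φ : ofSp P ⥤ᵇ FibCat.overCat U) {T : Over S} {v w : P.obj.obj (op T)} (h : v = w) :
    secHom Φ ⟨T, v⟩ = secHom Φ ⟨T, w⟩ := by
  subst h; rfl

theorem sec_comp {G : AlgSp.Sp S} (f : G ⟶ P) (Φ : ofSp P ⥤ᵇ FibCat.overCat U) {T : Over S}
    (z : G.obj.obj (op T)) (g : T ⟶ U) :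
    ((f ≫ spMapOfOver Φ).hom.app (op T) z).down = g ↔ secHom Φ ⟨T, f.hom.app (op T) z⟩ = g := Iff.rfl

/-- The relation space of a chart carries its composition squares. -/
theorem exists_rel (he : FibCat.IsEquivOver e) :
    ∃ R : Rel P U, R.s = spMapOfOver (BasedFunctor.comp e (FibCat.fpFst x x)) ∧
      R.t = spMapOfOver (BasedFunctor.comp e (FibCat.fpSnd x x)) := by
  let Φs := BasedFunctor.comp e (FibCat.fpFst x x)
  let Φt := BasedFunctor.comp e (FibCat.fpSnd x x)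
  let s := spMapOfOver Φs
  let t := spMapOfOver Φt
  let Q := pullback s s
  let p₁ : Q ⟶ P := pullback.fst s s
  let p₂ : Q ⟶ P := pullback.snd s s
  let ι : BasedFunctor.comp Φs x ≅ BasedFunctor.comp Φt x := whiskerL e (FibCat.fpIso x x)
  let i₀ : BasedFunctor.comp (ofSpMap p₁) Φs ≅ BasedFunctor.comp (ofSpMap p₂) Φs :=
    overFactor _ ≪≫ eqToIso (by rw [spMapOfOver_ofSpMap_comp, spMapOfOver_ofSpMap_comp, pullback.condition]) ≪≫
      (overFactor _).symm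
  let j : BasedFunctor.comp (BasedFunctor.comp (ofSpMap p₁) Φt) x ≅
      BasedFunctor.comp (BasedFunctor.comp (ofSpMap p₂) Φt) x :=
    (whiskerL (ofSpMap p₁) ι).symm ≪≫ whiskerR i₀ x ≪≫ whiskerL (ofSpMap p₂) ι
  let D := FibCat.fpLift (BasedFunctor.comp (ofSpMap p₁) Φt) (BasedFunctor.comp (ofSpMap p₂) Φt) j
  obtain ⟨c, -, -, ⟨ic⟩⟩ := exists_inverse he
  let δ : Q ⟶ P := spMap (BasedFunctor.comp D c)
  let iD : BasedFunctor.comp (ofSpMap δ) e ≅ D :=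
    whiskerR (isoOfSpMap (BasedFunctor.comp D c)).symm e ≪≫ whiskerL D ic
  have hδs : δ ≫ s = p₁ ≫ t :=
    (spMapOfOver_ofSpMap_comp δ Φs).symm.trans
      ((spMapOfOver_congr (whiskerR iD (FibCat.fpFst x x))).trans (spMapOfOver_ofSpMap_comp p₁ Φt))
  have hδt : δ ≫ t = p₂ ≫ t :=
    (spMapOfOver_ofSpMap_comp δ Φt).symm.trans
      ((spMapOfOver_congr (whiskerR iD (FibCat.fpSnd x x))).trans (spMapOfOver_ofSpMap_comp p₂ Φt))
  -- sections of the composite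
  have key : ∀ {T : Over S} (z : Q.obj.obj (op T)) {g₁ g₂ g₃ : T ⟶ U}
      {φ : x.obj (Over.mk g₁) ≅ x.obj (Over.mk g₂)} {θ : x.obj (Over.mk g₁) ⟶ x.obj (Over.mk g₃)},
      IsArr x e (p₁.hom.app (op T) z) g₁ g₂ φ.hom → IsArr x e (p₂.hom.app (op T) z) g₁ g₃ θ →
      IsArr x e (δ.hom.app (op T) z) g₂ g₃ (φ.inv ≫ θ) := by
    intro T z g₁ g₂ g₃ φ θ ⟨m₁, m₂, h₁, h₂, w⟩ ⟨n₁, n₂, k₁, k₂, w'⟩
    let o : (ofSp Q).obj := ⟨T, z⟩
    let k := appIso iD o
    let F : Over U := (e.obj ⟨T, δ.hom.app (op T) z⟩).obj.fst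
    let G : Over U := (e.obj ⟨T, δ.hom.app (op T) z⟩).obj.snd
    let kf : F ≅ (e.obj ⟨T, p₁.hom.app (op T) z⟩).obj.snd :=
      ⟨k.hom.hom.fst, k.inv.hom.fst, congrArg (fun t => t.hom.fst) k.hom_inv_id,
        congrArg (fun t => t.hom.fst) k.inv_hom_id⟩
    let kg : G ≅ (e.obj ⟨T, p₂.hom.app (op T) z⟩).obj.snd :=
      ⟨k.hom.hom.snd, k.inv.hom.snd, congrArg (fun t => t.hom.snd) k.hom_inv_id,
        congrArg (fun t => t.hom.snd) k.inv_hom_id⟩
    have hk : OverId k.hom := overId_app iD.hom o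
    refine ⟨kf ≪≫ m₂, kg ≪≫ n₂, (hk.map (FibCat.fpFst x x)).comp h₂, (hk.map (FibCat.fpSnd x x)).comp k₂, ?_⟩
    let K₁ := e.obj ⟨T, p₁.hom.app (op T) z⟩
    let K₂ := e.obj ⟨T, p₂.hom.app (op T) z⟩
    let i := appIso i₀ o
    have hi : i.hom ≫ n₁.hom = m₁.hom := overId_ext ((overId_app i₀.hom o).comp k₁) h₁
    have hw : x.map k.hom.hom.fst ≫ (K₁.obj.iso.inv ≫ x.map i.hom ≫ K₂.obj.iso.hom) =
        (e.obj ⟨T, δ.hom.app (op T) z⟩).obj.iso.hom ≫ x.map k.hom.hom.snd := k.hom.hom.w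
    show x.map (k.hom.hom.fst ≫ m₂.hom) ≫ φ.inv ≫ θ = _ ≫ x.map (k.hom.hom.snd ≫ n₂.hom)
    have e1 : x.map m₂.hom ≫ φ.inv = K₁.obj.iso.inv ≫ x.map m₁.hom := by
      rw [Iso.eq_inv_comp, ← reassoc_of% w, Iso.hom_inv_id, Category.comp_id]
    rw [Functor.map_comp, Functor.map_comp, ← reassoc_of% hw, Category.assoc, reassoc_of% e1, ← hi,
      Functor.map_comp, Category.assoc, w']
  have secS : ∀ {T : Over S} (v : (AlgSp.yon S).obj T ⟶ P) (g : T ⟶ U),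
      secHom Φs ⟨T, (AlgSp.J S).uliftYonedaEquiv v⟩ = g ↔
        ((AlgSp.J S).uliftYonedaEquiv (v ≫ s)).down = g := fun v g => Iff.rfl
  have hyoneq : ∀ {T : Over S} (z : (AlgSp.yon S).obj T ⟶ Q) (f : Q ⟶ P),
      f.hom.app (op T) ((AlgSp.J S).uliftYonedaEquiv z) = (AlgSp.J S).uliftYonedaEquiv (z ≫ f) := fun z f => rfl
  have sδ : IsPullback p₁ δ t s := by
    refine Groth.L24.Boot.isPullback_of_yon hδs.symm (fun T z z' h₁ hd => ?_) fun T a d had => ?_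
    · apply pullback.hom_ext (h₁ : z ≫ p₁ = z' ≫ p₁)
      apply (AlgSp.J S).uliftYonedaEquiv.injective
      rw [← hyoneq, ← hyoneq]
      let ζ := (AlgSp.J S).uliftYonedaEquiv z
      let ζ' := (AlgSp.J S).uliftYonedaEquiv z'
      have e₁ : p₁.hom.app (op T) ζ = p₁.hom.app (op T) ζ' := congrArg (AlgSp.J S).uliftYonedaEquiv h₁
      have ed : δ.hom.app (op T) ζ = δ.hom.app (op T) ζ' := congrArg (AlgSp.J S).uliftYonedaEquiv hd
      let g₁ := secHom Φs ⟨T, p₁.hom.app (op T) ζ⟩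
      have q2 : ∀ w : Q.obj.obj (op T), secHom Φs ⟨T, p₂.hom.app (op T) w⟩ = secHom Φs ⟨T, p₁.hom.app (op T) w⟩ :=
        fun w => (congrArg (fun f : Q ⟶ (AlgSp.yon S).obj U => (f.hom.app (op T) w).down)
          (pullback.condition (f := s) (g := s))).symm
      obtain ⟨φ, hφ, hA⟩ := exists_isArr x e (p₁.hom.app (op T) ζ) (g₁ := g₁) rfl rfl
      obtain ⟨θ, hθ, hB⟩ := exists_isArr x e (p₂.hom.app (op T) ζ) (g₁ := g₁) (q2 ζ) rfl
      have hg3 : secHom Φt ⟨T, p₂.hom.app (op T) ζ'⟩ = secHom Φt ⟨T, p₂.hom.app (op T) ζ⟩ := by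
        have := secHom_congr Φt ed
        have hq : ∀ w : Q.obj.obj (op T), secHom Φt ⟨T, δ.hom.app (op T) w⟩ = secHom Φt ⟨T, p₂.hom.app (op T) w⟩ :=
          fun w => congrArg (fun f : Q ⟶ (AlgSp.yon S).obj U => (f.hom.app (op T) w).down) hδt
        exact ((hq ζ).symm.trans (this.trans (hq ζ'))).symm
      obtain ⟨θ', hθ', hB'⟩ := exists_isArr x e (p₂.hom.app (op T) ζ') (g₁ := g₁)
        ((q2 ζ').trans (secHom_congr Φs e₁).symm) hg3
      have h1 := key ζ hA hB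
      have h2 := key ζ' (by rw [← e₁]; exact hA) hB'
      rw [← ed] at h2
      have := (cancel_epi φ.inv).1 (isArr_unique x e h1 h2)
      rw [← this] at hB'
      exact eq_of_isArr he hB hB'
    · let α := (AlgSp.J S).uliftYonedaEquiv a
      let β := (AlgSp.J S).uliftYonedaEquiv d
      have hm : secHom Φt ⟨T, α⟩ = secHom Φs ⟨T, β⟩ :=
        congrArg (fun f : (AlgSp.yon S).obj T ⟶ (AlgSp.yon S).obj U => ((AlgSp.J S).uliftYonedaEquiv f).down) had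
      obtain ⟨φ, hφ, hA⟩ := exists_isArr x e α rfl rfl
      obtain ⟨ψ, hψ, hD⟩ := exists_isArr x e β (g₁ := secHom Φt ⟨T, α⟩) hm.symm rfl
      obtain ⟨b, hb⟩ := exists_sec he _ _ (φ ≪≫ ψ) (hφ.comp hψ)
      have hbs : a ≫ s = (AlgSp.J S).uliftYonedaEquiv.symm b ≫ s := by
        apply (AlgSp.J S).uliftYonedaEquiv.injective
        refine ULift.ext _ _ ?_
        exact (secHom_of_isArr x e hb).1.symm.trans
          (secHom_congr Φs
            (Equiv.apply_symm_apply ((AlgSp.J S).uliftYonedaEquiv : ((AlgSp.yon S).obj T ⟶ P) ≃ _) b).symm)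
      let z : (AlgSp.yon S).obj T ⟶ Q := pullback.lift a ((AlgSp.J S).uliftYonedaEquiv.symm b) hbs
      refine ⟨z, pullback.lift_fst _ _ _, ?_⟩
      apply (AlgSp.J S).uliftYonedaEquiv.injective
      rw [← hyoneq]
      have hz1 : p₁.hom.app (op T) ((AlgSp.J S).uliftYonedaEquiv z) = α := by
        rw [hyoneq]; exact congrArg _ (pullback.lift_fst _ _ _)
      have hz2 : p₂.hom.app (op T) ((AlgSp.J S).uliftYonedaEquiv z) = b := by
        rw [hyoneq]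
        exact (congrArg _ (pullback.lift_snd _ _ _)).trans (Equiv.apply_symm_apply _ _)
      have h1 := key ((AlgSp.J S).uliftYonedaEquiv z) (φ := φ) (hz1.symm ▸ hA) (hz2.symm ▸ hb)
      rw [Iso.trans_hom, Iso.inv_hom_id_assoc] at h1
      exact eq_of_isArr he h1 hD
  have st : IsPullback p₂ δ t t := by
    refine Groth.L24.Boot.isPullback_of_yon hδt.symm (fun T z z' h₂ hd => ?_) fun T b d hbd => ?_
    · apply pullback.hom_ext ?_ (h₂ : z ≫ p₂ = z' ≫ p₂)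
      apply (AlgSp.J S).uliftYonedaEquiv.injective
      rw [← hyoneq, ← hyoneq]
      let ζ := (AlgSp.J S).uliftYonedaEquiv z
      let ζ' := (AlgSp.J S).uliftYonedaEquiv z'
      have e₂ : p₂.hom.app (op T) ζ = p₂.hom.app (op T) ζ' := congrArg (AlgSp.J S).uliftYonedaEquiv h₂
      have ed : δ.hom.app (op T) ζ = δ.hom.app (op T) ζ' := congrArg (AlgSp.J S).uliftYonedaEquiv hd
      have q2 : ∀ w : Q.obj.obj (op T), secHom Φs ⟨T, p₁.hom.app (op T) w⟩ = secHom Φs ⟨T, p₂.hom.app (op T) w⟩ :=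
        fun w => congrArg (fun f : Q ⟶ (AlgSp.yon S).obj U => (f.hom.app (op T) w).down)
          (pullback.condition (f := s) (g := s))
      have hq : ∀ w : Q.obj.obj (op T), secHom Φs ⟨T, δ.hom.app (op T) w⟩ = secHom Φt ⟨T, p₁.hom.app (op T) w⟩ :=
        fun w => congrArg (fun f : Q ⟶ (AlgSp.yon S).obj U => (f.hom.app (op T) w).down) hδs
      let g₁ := secHom Φs ⟨T, p₂.hom.app (op T) ζ⟩
      obtain ⟨θ, hθ, hB⟩ := exists_isArr x e (p₂.hom.app (op T) ζ) (g₁ := g₁) rfl rfl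
      obtain ⟨φ, hφ, hA⟩ := exists_isArr x e (p₁.hom.app (op T) ζ) (g₁ := g₁) (q2 ζ) rfl
      have hg2 : secHom Φt ⟨T, p₁.hom.app (op T) ζ'⟩ = secHom Φt ⟨T, p₁.hom.app (op T) ζ⟩ :=
        ((hq ζ').symm.trans ((secHom_congr Φs ed).symm.trans (hq ζ)))
      obtain ⟨φ', hφ', hA'⟩ := exists_isArr x e (p₁.hom.app (op T) ζ') (g₁ := g₁)
        ((q2 ζ').trans (secHom_congr Φs e₂).symm) hg2
      have h1 := key ζ hA hB
      have h2 := key ζ' hA' (by rw [← e₂]; exact hB)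
      rw [← ed] at h2
      have h3 := isArr_unique x e h1 h2
      have : φ' = φ := by
        have h4 : φ.inv = φ'.inv := (cancel_mono θ.hom).1 h3
        exact Iso.ext (by rw [← cancel_mono φ.inv, Iso.hom_inv_id, h4, Iso.hom_inv_id])
      rw [this] at hA'
      exact eq_of_isArr he hA hA'
    · let β := (AlgSp.J S).uliftYonedaEquiv b
      let γ := (AlgSp.J S).uliftYonedaEquiv d
      have hm : secHom Φt ⟨T, β⟩ = secHom Φt ⟨T, γ⟩ :=
        congrArg (fun f : (AlgSp.yon S).obj T ⟶ (AlgSp.yon S).obj U => ((AlgSp.J S).uliftYonedaEquiv f).down) hbd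
      obtain ⟨θ, hθ, hB⟩ := exists_isArr x e β rfl rfl
      obtain ⟨ψ, hψ, hD⟩ := exists_isArr x e γ (g₂ := secHom Φt ⟨T, β⟩) rfl hm.symm
      obtain ⟨a', ha'⟩ := exists_sec he _ _ (θ ≪≫ ψ.symm) (hθ.comp hψ.inv)
      have hbs : (AlgSp.J S).uliftYonedaEquiv.symm a' ≫ s = b ≫ s := by
        apply (AlgSp.J S).uliftYonedaEquiv.injective
        refine ULift.ext _ _ ?_
        exact (secHom_congr Φs
          (Equiv.apply_symm_apply ((AlgSp.J S).uliftYonedaEquiv : ((AlgSp.yon S).obj T ⟶ P) ≃ _) a')).trans (secHom_of_isArr x e ha').1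
      let z : (AlgSp.yon S).obj T ⟶ Q := pullback.lift ((AlgSp.J S).uliftYonedaEquiv.symm a') b hbs
      refine ⟨z, pullback.lift_snd _ _ _, ?_⟩
      apply (AlgSp.J S).uliftYonedaEquiv.injective
      rw [← hyoneq]
      have hz1 : p₁.hom.app (op T) ((AlgSp.J S).uliftYonedaEquiv z) = a' := by
        rw [hyoneq]
        exact (congrArg _ (pullback.lift_fst _ _ _)).trans (Equiv.apply_symm_apply _ _)
      have hz2 : p₂.hom.app (op T) ((AlgSp.J S).uliftYonedaEquiv z) = β := by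
        rw [hyoneq]; exact congrArg _ (pullback.lift_snd _ _ _)
      have h1 := key ((AlgSp.J S).uliftYonedaEquiv z) (φ := θ ≪≫ ψ.symm) (by rw [hz1]; exact ha') (by rw [hz2]; exact hB)
      rw [show (θ ≪≫ ψ.symm).inv ≫ θ.hom = ψ.hom by simp] at h1
      exact eq_of_isArr he h1 hD
  exact ⟨⟨s, t, Q, p₁, p₂, δ, IsPullback.of_hasPullback s s, sδ, st⟩, rfl, rfl⟩

end Groth.L24.Slice
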