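import Groth.Agent.L24.Slice.Data
import Groth.Agent.L24.St.DiagAbs
import Groth.Agent.L24.St.DiagLft

/-!
A scheme over the chart is an atlas when its fibres over the chart are.
-/

set_option autoImplicit false
set_option backward.isDefEq.respectTransparency false
set_option backward.isDefEq.respectTransparency.types false

universe u

open CategoryTheory CategoryTheory.Limits AlgebraicGeometry Opposite AlgSt

noncomputable section

namespace Groth.L24.Slice

open Groth.L24.St

variable {S : Scheme.{u}} {𝒳 : AlgSt.Cat S} {U : Over S}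

theorem exists_atlas (hg : FibCat.IsFibGrpd 𝒳.p) (hd : RepByAlgSp1 (FibCat.diag (FibCat.toSelf 𝒳)))
    {x : FibCat.overCat U ⥤ᵇ 𝒳} (hx : RepByAlgSpWith (AlgSp.LocP @Smooth) x)
    (hxs : RepByAlgSpWith AlgSp.IsSurjectiveMor x) (D : RelChart x) {R : MorphismProperty Scheme.{u}}
    (hR : Groth.L23.EtLocal R) {W₀ : Scheme.{u}} (w₀ : W₀ ⟶ U.left)
    (hp : R (pullback.fst D.α.left w₀ ≫ D.a.left)) (hs : Surjective (pullback.fst D.α.left w₀ ≫ D.a.left)) :
    ∃ (W : Over S) (z : FibCat.overCat W ⥤ᵇ 𝒳),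
      RepByAlgSpWith (AlgSp.LocP R) z ∧ RepByAlgSpWith AlgSp.IsSurjectiveMor z := by
  let W : Over S := Over.mk (w₀ ≫ U.hom)
  let w : W ⟶ U := Over.homMk w₀ rfl
  let z := BasedFunctor.comp (overMap w) x
  refine ⟨W, z, ?_⟩
  have hW := overCat_isFibGrpd (C := Over S) W
  have hU := overCat_isFibGrpd (C := Over S) U
  have hz : RepByAlgSp1 z := (repByAlgSp1_diag_iff hg).1 hd W z
  -- the space of the fibre product with the chart
  let e' := BasedFunctor.comp D.e fpSwap
  have he' : FibCat.IsEquivOver e' := isEquivOver_comp D.he fpSwap_isEquivOver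
  let t := spMapOfOver (BasedFunctor.comp e' (FibCat.fpFst x x))
  have htR : t = D.R.t := D.ht.symm
  let Q := pullback t ((AlgSp.yon S).map w)
  obtain ⟨hQ, Θ, hΘ, -, ⟨iΘ⟩⟩ := Groth.L24.LocQ.exists_space_square' x e' he' (AlgSp.IsAlgSpace.yon_obj W)
    (IsPullback.of_hasPullback t ((AlgSp.yon S).map w))
  let c := BasedFunctor.comp (ofSpMap ((AlgSp.yon S).map w)) (toOverCat U)
  let M := fpMap (F := z) (G := x) (F' := BasedFunctor.comp c x) (G' := x) (toOverCat W) (BasedFunctor.id _)
    (whiskerR (Groth.L24.LocQ.yonToOverIso w).symm x) (Iso.refl _)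
  have hM : FibCat.IsEquivOver M := fpMap_isEquivOver (toOverCat_isEquivOver _) (isEquivOver_id _) _ _
  let E : ofSp Q ⥤ᵇ FibCat.fp x z := BasedFunctor.comp (BasedFunctor.comp Θ M) fpSwap
  have hE : FibCat.IsEquivOver E := isEquivOver_comp (isEquivOver_comp hΘ hM) fpSwap_isEquivOver
  let f₁ : Q ⟶ (AlgSp.yon S).obj U := pullback.fst t ((AlgSp.yon S).map w) ≫ D.R.s
  have iE : BasedFunctor.comp E (FibCat.fpFst x z) ≅ BasedFunctor.comp (ofSpMap f₁) (toOverCat U) := by
    refine (show BasedFunctor.comp E (FibCat.fpFst x z) ≅ _ from iΘ) ≪≫ whiskerL _ (overFactor _) ≪≫ eqToIso ?_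
    show BasedFunctor.comp (BasedFunctor.comp (ofSpMap _) (ofSpMap _)) (toOverCat U) = _
    have : spMapOfOver (BasedFunctor.comp e' (FibCat.fpSnd x x)) = D.R.s := D.hs.symm
    rw [this]
    rfl
  -- its chart
  let j : (AlgSp.yon S).obj (pullback D.α w) ⟶ Q :=
    pullback.lift ((AlgSp.yon S).map (pullback.fst D.α w) ≫ D.r) ((AlgSp.yon S).map (pullback.snd D.α w)) (by
      rw [Category.assoc, htR, D.hα, ← Functor.map_comp, ← Functor.map_comp, pullback.condition])
  have sqj : IsPullback ((AlgSp.yon S).map (pullback.fst D.α w)) j D.r (pullback.fst t ((AlgSp.yon S).map w)) := by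
    refine IsPullback.of_bot ?_ (pullback.lift_fst _ _ _).symm (IsPullback.of_hasPullback t ((AlgSp.yon S).map w)).flip.flip
    rw [show j ≫ pullback.snd t ((AlgSp.yon S).map w) = _ from pullback.lift_snd _ _ _, htR, D.hα]
    exact (IsPullback.of_hasPullback D.α w).map (AlgSp.yon S)
  have hje : AlgSp.RepWith @Etale j := Groth.L23.repWith_of_isPullback sqj D.hr
  have hjs : AlgSp.RepWith @Surjective j := Groth.L23.repWith_of_isPullback sqj D.hrs
  let h : pullback D.α w ⟶ U := pullback.fst D.α w ≫ D.a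
  have hh : j ≫ f₁ = (AlgSp.yon S).map h := by
    show j ≫ pullback.fst _ _ ≫ _ = _
    rw [pullback.lift_fst_assoc, Category.assoc, D.ha, Functor.map_comp]
  have sqA : IsPullback (pullback.fst D.α w).left (pullback.snd D.α w).left D.α.left w₀ :=
    (IsPullback.of_hasPullback D.α w).map (Over.forget S)
  have := hR.stable
  have hR1 : R h.left := by
    rw [show h.left = (pullback.fst D.α w).left ≫ D.a.left from rfl, ← sqA.isoPullback_hom_fst, Category.assoc]
    exact (MorphismProperty.cancel_left_of_respectsIso R _ _).2 hp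
  have hS1 : Surjective h.left := by
    rw [show h.left = (pullback.fst D.α w).left ≫ D.a.left from rfl, ← sqA.isoPullback_hom_fst, Category.assoc]
    exact (MorphismProperty.cancel_left_of_respectsIso @Surjective _ _).2 hs
  have hU' := AlgSp.IsAlgSpace.yon_obj U
  have hf₁ : AlgSp.LocP R f₁ := Groth.L23.locP_of_chart hR hje hjs (AlgSp.repWith_id _ U)
    (by rw [Category.comp_id, hh]) hR1
  refine ⟨?_, repWith_surjective_of_isSurjective hW hg hz fun p => ?_⟩
  · refine repWith_of_fpFst_cover hasAtlasCovers_fppf (pBase_locP hR) (isLocalOnBase_locP_fppf hR)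
      (fun _ _ _ h => h) hW hg hU hz
      (repWith_mono (fun _ _ _ _ h => Groth.L23.locP_mono
        (fun φ (hφ : Smooth φ) => have := hφ; (inferInstance : Flat φ)) h) hx)
      (repWith_mono (fun _ _ _ _ h => Groth.L23.locP_mono
        (fun φ (hφ : Smooth φ) => have := hφ; (inferInstance : LocallyOfFinitePresentation φ)) h) hx) hxs ?_
    exact (repWith_precomp hE _).1 ((repWith_congr iE).2
      ((repWith_postcomp (toOverCat_isEquivOver U) _).2 (repWith_ofSpMap_of_prop (pBase_locP hR) hQ hU' f₁ hf₁)))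
  · have hf₁s : AlgSp.IsSurjectiveMor f₁ := by
      have h1 : AlgSp.RepWith @Surjective ((AlgSp.yon S).map h) := (AlgSp.repWith_yon_map_iff @Surjective h).2 hS1
      intro q
      obtain ⟨q', hq'⟩ := Groth.L23.surjective_map_of_repWith h1 q
      exact ⟨AlgSp.Points.map j q', by rw [← AlgSp.Points.map_comp, hh, hq']⟩
    obtain ⟨u, hu⟩ := isSurjective_of_repWith hU hg hxs p
    have hΦ : AlgSp.IsSurjectiveMor (spMapOfOver (BasedFunctor.comp E (FibCat.fpFst x z))) := by
      rw [spMapOfOver_congr iE, spMapOfOver_ofSpMap_comp, spMapOfOver_toOverCat, Category.comp_id]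
      exact hf₁s
    obtain ⟨v, hv⟩ := (surjective_spMapOfOver_iff _).1 hΦ u
    rw [map_comp_apply] at hv
    refine ⟨Points.map (FibCat.fpSnd x z) (Points.map E v), ?_⟩
    rw [← map_comp_apply, ← map_congr (FibCat.fpIso x z), map_comp_apply, hv, hu]

end Groth.L24.Slice
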