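import Groth.Agent.L24.Boot.FQSlice

/-!
Slicing a chart by coordinates at roots of unity.
-/

set_option autoImplicit false
set_option backward.isDefEq.respectTransparency false
set_option backward.isDefEq.respectTransparency.types false

universe u

open CategoryTheory CategoryTheory.Limits AlgebraicGeometry Opposite

noncomputable section

namespace Groth.L24.Slice

open Groth.L24.Boot

set_option maxHeartbeats 1000000 in
/-- Coordinates cut out a scheme over the target which meets every fibre of the source map. -/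
theorem exists_slice {A U T : Scheme.{u}} (a : A ⟶ T) (α : A ⟶ U) {ι₀ : Type u} (κ : ι₀ → Type u)
    [∀ i, Finite (κ i)] (U0 : ι₀ → U.Opens) (G0 : ∀ i, (U0 i).toScheme ⟶ AffZ (κ i))
    (hopen : ∀ i, UniversallyOpen (affLift ((α ⁻¹ᵁ U0 i).ι ≫ a) ((α ∣_ U0 i) ≫ G0 i)))
    (hcov : ∀ t : T, ∃ i x, a x = t ∧ α x ∈ U0 i) :
    ∃ (W : Scheme.{u}) (w : W ⟶ U), Surjective (pullback.fst α w ≫ a) ∧
      ∀ (Q : MorphismProperty Scheme.{u}) [Q.IsStableUnderBaseChange] [Q.IsStableUnderComposition]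
        [IsZariskiLocalAtSource Q] [Q.RespectsIso], (∀ {X Y : Scheme.{u}} (f : X ⟶ Y), Etale f → Q f) →
        (∀ i, Q (affLift ((α ⁻¹ᵁ U0 i).ι ≫ a) ((α ∣_ U0 i) ≫ G0 i))) → Q (pullback.fst α w ≫ a) := by
  classical
  let ι := ι₀ × {n : ℕ // 1 ≤ n}
  have hE : ∀ i : ι, ∃ (E : Type u) (_ : CommRing E)
      (_ : Algebra (ULift.{u} ℤ) E) (_ : Algebra.Etale (ULift.{u} ℤ) E) (r : κ i.1 → E),
      ∀ (K : Type u) [Field K] [Algebra (ULift.{u} ℤ) K] (x : κ i.1 → K),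
        (i.2.1 : K) ≠ 0 → (∀ j, x j ^ i.2.1 = 1) → ∃ ψ : E →ₐ[ULift.{u} ℤ] K, ∀ j, ψ (r j) = x j := fun i => by
    obtain ⟨d, ⟨e⟩⟩ := Finite.exists_equiv_fin (κ i.1)
    obtain ⟨E, i1, i2, i3, r, hr⟩ := exists_rootsAlgebra (ULift.{u} ℤ) i.2.1 i.2.2 d
    refine ⟨E, i1, i2, i3, r ∘ e, fun K _ _ x hK hx => ?_⟩
    obtain ⟨ψ, hψ⟩ := hr K (x ∘ e.symm) hK (fun j => hx _)
    exact ⟨ψ, fun j => by simpa using hψ (e j)⟩
  choose E iE1 iE2 iE3 r hr using hE
  let φ : ∀ i : ι, Spec (CommRingCat.of (E i)) ⟶ AffZ (κ i.1) := fun i =>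
    Spec.map (CommRingCat.ofHom (MvPolynomial.aeval (r i) :
      MvPolynomial (κ i.1) (ULift.{u} ℤ) →ₐ[ULift.{u} ℤ] E i).toRingHom)
  let Wi : ι → Scheme.{u} := fun i => pullback (G0 i.1) (φ i)
  let wi : ∀ i, Wi i ⟶ U := fun i => pullback.fst (G0 i.1) (φ i) ≫ (U0 i.1).ι
  let g : ∀ i, (α ⁻¹ᵁ U0 i).toScheme ⟶ AffZ (κ i) := fun i => (α ∣_ U0 i) ≫ G0 i
  let P : ι → Scheme.{u} := fun i => pullback (α ∣_ U0 i.1) (pullback.fst (G0 i.1) (φ i))
  have hP : ∀ i, IsPullback (pullback.fst _ _ ≫ (α ⁻¹ᵁ U0 i.1).ι) (pullback.snd _ _ : P i ⟶ Wi i)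
      α (wi i) := fun i =>
    (IsPullback.of_hasPullback _ _).paste_horiz (isPullback_morphismRestrict α (U0 i.1)).flip
  have hP' : ∀ i, IsPullback (pullback.fst (α ∣_ U0 i.1) (pullback.fst (G0 i.1) (φ i)))
      (pullback.snd _ _ ≫ pullback.snd (G0 i.1) (φ i)) (g i.1) (φ i) := fun i =>
    (IsPullback.of_hasPullback _ _).paste_vert (IsPullback.of_hasPullback (G0 i.1) (φ i))
  refine ⟨∐ Wi, Sigma.desc wi, ⟨fun t => ?_⟩, ?_⟩
  · obtain ⟨i₀, x, rfl, hx⟩ := hcov t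
    have := hopen i₀
    obtain ⟨n, hn, K, _, _, k, hnK, hk, hroot⟩ :=
      exists_rootPoint ((α ⁻¹ᵁ U0 i₀).ι ≫ a) (g i₀) ⟨x, hx⟩
    let i : ι := (i₀, ⟨n, hn⟩)
    obtain ⟨ψ, hψ'⟩ := hr i K k hnK hk
    obtain ⟨x', q, hx', hq⟩ := hroot
      (ψ.toRingHom.comp (MvPolynomial.aeval (r i) :
        MvPolynomial (κ i₀) (ULift.{u} ℤ) →ₐ[ULift.{u} ℤ] E i).toRingHom)
        (fun j => by
          show ψ (MvPolynomial.aeval (r i) (MvPolynomial.X j)) = k j
          rw [MvPolynomial.aeval_X]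
          exact hψ' j)
    rw [CommRingCat.ofHom_comp, Spec.map_comp, Scheme.Hom.comp_apply] at hq
    obtain ⟨z, hz1, -⟩ := exists_point (hP' i) x' _ hq
    obtain ⟨z', hz1', -⟩ := exists_point (IsPullback.of_hasPullback α (Sigma.desc wi)) ((α ⁻¹ᵁ U0 i₀).ι x')
      ((Sigma.ι Wi i) (pullback.snd (α ∣_ U0 i₀) (pullback.fst (G0 i₀) (φ i)) z)) (by
        show _ = (Sigma.desc wi) _
        rw [← Scheme.Hom.comp_apply (Sigma.ι Wi i), Sigma.ι_desc, ← hz1, ← Scheme.Hom.comp_apply,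
          ← Scheme.Hom.comp_apply, ← Scheme.Hom.comp_apply]
        refine congrArg (fun f : P i ⟶ U => f z) ?_
        rw [← Category.assoc]
        exact (hP i).w)
    refine ⟨z', ?_⟩
    rw [Scheme.Hom.comp_apply, hz1', ← Scheme.Hom.comp_apply, hx', Scheme.Hom.comp_apply]
    rfl
  · intro Q _ _ _ _ hQE hQ
    refine IsZariskiLocalAtSource.of_openCover (P := Q)
      (Scheme.Pullback.openCoverOfRight (sigmaOpenCover Wi) α (Sigma.desc wi)) fun i => ?_
    have hi : (sigmaOpenCover Wi).f i ≫ Sigma.desc wi = wi i := Sigma.ι_desc _ _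
    have sqi : IsPullback (pullback.fst α ((sigmaOpenCover Wi).f i ≫ Sigma.desc wi))
        (pullback.snd α ((sigmaOpenCover Wi).f i ≫ Sigma.desc wi)) α (wi i) := by
      exact (IsPullback.of_hasPullback α ((sigmaOpenCover Wi).f i ≫ Sigma.desc wi)).of_iso
        (Iso.refl _) (Iso.refl _) (Iso.refl _) (Iso.refl _) (by simp) (by simp) (by simp)
        (by rw [Iso.refl_hom, Iso.refl_hom, Category.comp_id, Category.id_comp]; exact hi)
    have e : (Scheme.Pullback.openCoverOfRight (sigmaOpenCover Wi) α (Sigma.desc wi)).f i ≫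
        pullback.fst α (Sigma.desc wi) ≫ a =
        pullback.fst α ((sigmaOpenCover Wi).f i ≫ Sigma.desc wi) ≫ a := by
      simp
    rw [e, ← IsPullback.isoIsPullback_hom_fst _ _ sqi (hP i), Category.assoc, Category.assoc]
    refine (MorphismProperty.cancel_left_of_respectsIso Q _ _).2 ?_
    rw [← (hP' i).isoPullback_hom_fst, Category.assoc]
    refine (MorphismProperty.cancel_left_of_respectsIso Q _ _).2 ?_
    exact fst_comp_of_affLift Q _ _ (hQ i.1) _ (hQE _ (etale_terminal_specEtale (E i)))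

end Groth.L24.Slice
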