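import Groth.Agent.L24.Slice.Arr
import Groth.Agent.L24.LocQ.Engine
import Groth.Agent.L24.Boot.EtaleCharts
import Groth.Agent.L24.St.DiagCalc

/-!
Scheme charts of the relation space of a chart, and their properties from the diagonal.
-/

set_option autoImplicit false
set_option backward.isDefEq.respectTransparency false
set_option backward.isDefEq.respectTransparency.types false

universe u

open CategoryTheory CategoryTheory.Limits AlgebraicGeometry Opposite AlgSt

noncomputable section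

namespace Groth.L24.Slice

open Groth.L24.St

variable {S : Scheme.{u}} {𝒳 : AlgSt.Cat S} {U : Over S}

/-- The relation of a chart with a scheme chart. -/
structure RelChart (x : FibCat.overCat U ⥤ᵇ 𝒳) where
  P : AlgSp.Space S
  e : ofSp P.obj ⥤ᵇ FibCat.fp x x
  he : FibCat.IsEquivOver e
  R : Rel P.obj U
  hs : R.s = spMapOfOver (BasedFunctor.comp e (FibCat.fpFst x x))
  ht : R.t = spMapOfOver (BasedFunctor.comp e (FibCat.fpSnd x x))
  A : Over S
  r : (AlgSp.yon S).obj A ⟶ P.obj
  hr : AlgSp.RepWith @Etale r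
  hrs : AlgSp.RepWith @Surjective r
  a : A ⟶ U
  α : A ⟶ U
  ha : r ≫ R.s = (AlgSp.yon S).map a
  hα : r ≫ R.t = (AlgSp.yon S).map α
  smooth_a : Smooth a.left
  smooth_α : Smooth α.left
  surj_a : Surjective a.left
  surj_α : Surjective α.left

theorem exists_relChart (hg : FibCat.IsFibGrpd 𝒳.p) {x : FibCat.overCat U ⥤ᵇ 𝒳}
    (hx : RepByAlgSpWith (AlgSp.LocP @Smooth) x) (hxs : RepByAlgSpWith AlgSp.IsSurjectiveMor x) :
    Nonempty (RelChart x) := by
  obtain ⟨P, e, he⟩ := repWith_rep1 hx U x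
  obtain ⟨R, hs, ht⟩ := exists_rel he
  obtain ⟨A, r, hr, hrs⟩ := P.property.atlas
  obtain ⟨a, ha⟩ := (AlgSp.yon S).map_surjective (r ≫ R.s)
  obtain ⟨α, hα⟩ := (AlgSp.yon S).map_surjective (r ≫ R.t)
  have hU := AlgSp.IsAlgSpace.yon_obj U
  have key : ∀ (c : A ⟶ U) (Φ : ofSp P.obj ⥤ᵇ FibCat.overCat U),
      RepByAlgSpWith (AlgSp.LocP @Smooth) Φ → RepByAlgSpWith AlgSp.IsSurjectiveMor Φ →
      r ≫ spMapOfOver Φ = (AlgSp.yon S).map c → Smooth c.left ∧ Surjective c.left := by
    intro c Φ h1 h2 hc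
    refine ⟨Groth.L24.LocQ.locP_spMapOfOver Groth.L23.etLocal_smooth P.property h1 r (𝟙 _) c hr
      (AlgSp.repWith_id _ U) (by rw [Category.comp_id]; exact hc), Groth.L24.Boot.surjective_of_points c ?_⟩
    rw [← hc, show AlgSp.Points.map (r ≫ spMapOfOver Φ) = AlgSp.Points.map (spMapOfOver Φ) ∘ AlgSp.Points.map r from
      funext fun q => AlgSp.Points.map_comp r _ q]
    exact (Groth.L24.LocQ.surjective_spMapOfOver h2).comp (Groth.L23.surjective_map_of_repWith hrs)
  obtain ⟨ha₁, ha₂⟩ := key a _ ((repWith_precomp he _).2 (repWith_fpFst x hx))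
    ((repWith_precomp he _).2 (repWith_fpFst x hxs)) (by rw [← hs]; exact ha.symm)
  obtain ⟨hb₁, hb₂⟩ := key α _ ((repWith_precomp he _).2 (repWith_fpSnd x hx))
    ((repWith_precomp he _).2 (repWith_fpSnd x hxs)) (by rw [← ht]; exact hα.symm)
  exact ⟨⟨P, e, he, R, hs, ht, A, r, hr, hrs, a, α, ha.symm, hα.symm, ha₁, hb₁, ha₂, hb₂⟩⟩

/-- A property of the diagonal with cancellation gives it to the pairing of the two projections. -/
theorem pair_prop (hg : FibCat.IsFibGrpd 𝒳.p) {Q : MorphismProperty Scheme.{u}} (hQ : Groth.L23.EtLocal Q)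
    (hΔ : RepByAlgSpWith (AlgSp.LocP Q) (FibCat.diag (FibCat.toSelf 𝒳))) {x : FibCat.overCat U ⥤ᵇ 𝒳}
    (D : RelChart x) :
    Q (pullback.lift D.a.left D.α.left (by rw [Over.w D.a, Over.w D.α]) : D.A.left ⟶ pullback U.hom U.hom) := by
  let t := FibCat.toSelf 𝒳
  let xt := BasedFunctor.comp x t
  let W : Over S := Over.mk (pullback.fst U.hom U.hom ≫ U.hom)
  let u₁ : W ⟶ U := Over.homMk (pullback.fst U.hom U.hom) rfl
  let u₂ : W ⟶ U := Over.homMk (pullback.snd U.hom U.hom) pullback.condition.symm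
  let K : FibCat.overCat W ⥤ᵇ FibCat.fp xt xt :=
    FibCat.fpLift (overMap u₁) (overMap u₂)
      (mkIso2 (fun w => eqToIso ((x.w_obj ((overMap u₁).obj w)).trans (x.w_obj ((overMap u₂).obj w)).symm))
        (fun w w' φ => by
          refine (congrArg (fun f => f ≫ eqToHom ((x.w_obj ((overMap u₁).obj w')).trans (x.w_obj ((overMap u₂).obj w')).symm))
            (p_map_map x ((overMap u₁).map φ))).trans (Eq.trans ?_ (congrArg (fun f =>
            eqToHom ((x.w_obj ((overMap u₁).obj w)).trans (x.w_obj ((overMap u₂).obj w)).symm) ≫ f)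
            (p_map_map x ((overMap u₂).map φ))).symm)
          simp only [Category.assoc, eqToHom_trans, eqToHom_trans_assoc]
          rfl)
        (fun w => OverId.of_eq ((x.w_obj ((overMap u₁).obj w)).trans (x.w_obj ((overMap u₂).obj w)).symm) rfl))
  have hK : FibCat.IsEquivOver K := by
    have key : ∀ {p q : (FibCat.fp xt xt).obj} (M : p ⟶ q) (h1 : p.obj.fst.left = p.obj.snd.left)
        (h2 : q.obj.fst.left = q.obj.snd.left), p.obj.iso.hom = eqToHom ((xt.w_obj _).trans (h1.trans (xt.w_obj _).symm)) →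
        q.obj.iso.hom = eqToHom ((xt.w_obj _).trans (h2.trans (xt.w_obj _).symm)) →
        M.hom.fst.left ≫ eqToHom h2 = eqToHom h1 ≫ M.hom.snd.left := by
      intro p q M h1 h2 hp hq
      have w := M.hom.w
      rw [hp, hq] at w
      have e1 : xt.map M.hom.fst = eqToHom (xt.w_obj _) ≫ M.hom.fst.left ≫ eqToHom (xt.w_obj _).symm := p_map_map xt _
      have e2 : xt.map M.hom.snd = eqToHom (xt.w_obj _) ≫ M.hom.snd.left ≫ eqToHom (xt.w_obj _).symm := p_map_map xt _
      rw [e1, e2] at w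
      rw [← cancel_epi (eqToHom (xt.w_obj p.obj.fst)), ← cancel_mono (eqToHom (xt.w_obj q.obj.snd).symm)]
      simpa [eqToHom_trans, eqToHom_trans_assoc] using w
    have : K.toFunctor.Faithful := ⟨fun {a b f g} h =>
      Over.OverMorphism.ext (congrArg (fun m => m.hom.fst.left) h)⟩
    have : K.toFunctor.Full := ⟨fun {a b} M => by
      have hM := key M rfl rfl rfl rfl
      rw [eqToHom_refl, eqToHom_refl] at hM
      have hM' : M.hom.fst.left = M.hom.snd.left :=
        (Category.comp_id _).symm.trans (hM.trans (Category.id_comp _))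
      have w1 : M.hom.fst.left ≫ b.hom ≫ u₁ = a.hom ≫ u₁ := Over.w M.hom.fst
      have w2 : M.hom.snd.left ≫ b.hom ≫ u₂ = a.hom ≫ u₂ := Over.w M.hom.snd
      have hw : M.hom.fst.left ≫ b.hom = a.hom := by
        apply Over.OverMorphism.ext
        apply pullback.hom_ext
        · exact (Category.assoc _ _ _).trans (congrArg (fun f => f.left) w1)
        · exact (Category.assoc _ _ _).trans (congrArg (fun f => f.left) (hM'.symm ▸ w2))
      exact ⟨Over.homMk M.hom.fst.left hw, fp_ext (Over.OverMorphism.ext rfl) (Over.OverMorphism.ext hM')⟩⟩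
    refine isEquivOver_of_overId _ fun η => ?_
    let c₁ : Over U := η.obj.fst
    let c₂ : Over U := η.obj.snd
    let i := η.obj.iso
    obtain ⟨e0, he0⟩ := (fp_overId η).eq
    have h0 : c₁.left = c₂.left := (xt.w_obj c₁).symm.trans (e0.trans (xt.w_obj c₂))
    have hc : c₁.hom.left ≫ U.hom = (eqToHom h0 ≫ c₂.hom).left ≫ U.hom := by
      rw [Over.w, Over.w]
    let b : c₁.left ⟶ W := Over.homMk (pullback.lift c₁.hom.left (eqToHom h0 ≫ c₂.hom).left hc) (by
      show _ ≫ pullback.fst U.hom U.hom ≫ U.hom = _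
      rw [pullback.lift_fst_assoc, Over.w])
    let k₁ : (K.obj (Over.mk b)).obj.fst ≅ c₁ := Over.isoMk (Iso.refl _) (by
      apply Over.OverMorphism.ext
      show 𝟙 _ ≫ c₁.hom.left = pullback.lift _ _ hc ≫ pullback.fst U.hom U.hom
      rw [pullback.lift_fst, Category.id_comp])
    let k₂ : (K.obj (Over.mk b)).obj.snd ≅ c₂ := Over.isoMk (eqToIso h0) (by
      apply Over.OverMorphism.ext
      show (eqToHom h0).left ≫ c₂.hom.left = pullback.lift _ _ hc ≫ pullback.snd U.hom U.hom
      rw [pullback.lift_snd, Over.comp_left])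
    refine ⟨Over.mk b, fpIsoMk k₁ k₂ ?_, overId_fp _ (OverId.of_eq rfl (by rfl))⟩
    show xt.map k₁.hom ≫ i.hom =
      eqToHom ((x.w_obj ((overMap u₁).obj (Over.mk b))).trans (x.w_obj ((overMap u₂).obj (Over.mk b))).symm) ≫ xt.map k₂.hom
    rw [show i.hom = eqToHom e0 from he0, show xt.map k₁.hom = _ from p_map_map xt _,
      show xt.map k₂.hom = _ from p_map_map xt _,
      show (FibCat.overCat U).p.map k₁.hom = 𝟙 _ from rfl, show (FibCat.overCat U).p.map k₂.hom = eqToHom h0 from rfl]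
    simp only [Category.id_comp, eqToHom_trans, eqToHom_trans_assoc]
  obtain ⟨c, hc, -, ⟨ic⟩⟩ := exists_inverse hK
  have h1 : RepByAlgSpWith (AlgSp.LocP Q) (fpPost x x t) := by
    have h0 := repWith_fpFst (cmpMap x x t) hΔ
    have h2 := (repWith_precomp (cmpLift_isEquivOver x x t) _).2 h0
    rwa [cmpLift_fst] at h2
  let Φ := BasedFunctor.comp (BasedFunctor.comp D.e (fpPost x x t)) c
  have hΦ : RepByAlgSpWith (AlgSp.LocP Q) Φ :=
    (repWith_postcomp hc _).2 ((repWith_precomp D.he _).2 h1)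
  obtain ⟨h, hh⟩ := (AlgSp.yon S).map_surjective (D.r ≫ spMapOfOver Φ)
  have hQh : Q h.left := Groth.L24.LocQ.locP_spMapOfOver hQ D.P.property hΦ D.r (𝟙 _) h D.hr
    (AlgSp.repWith_id _ W) (by rw [Category.comp_id, hh])
  have e1 : spMapOfOver Φ ≫ (AlgSp.yon S).map u₁ = D.R.s := by
    rw [← spMapOfOver_overMap, D.hs]
    exact spMapOfOver_congr (whiskerR (whiskerL (BasedFunctor.comp D.e (fpPost x x t)) ic) (FibCat.fpFst xt xt))
  have e2 : spMapOfOver Φ ≫ (AlgSp.yon S).map u₂ = D.R.t := by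
    rw [← spMapOfOver_overMap, D.ht]
    exact spMapOfOver_congr (whiskerR (whiskerL (BasedFunctor.comp D.e (fpPost x x t)) ic) (FibCat.fpSnd xt xt))
  have h₁ : h ≫ u₁ = D.a := (AlgSp.yon S).map_injective (by rw [Functor.map_comp, hh, Category.assoc, e1, D.ha])
  have h₂ : h ≫ u₂ = D.α := (AlgSp.yon S).map_injective (by rw [Functor.map_comp, hh, Category.assoc, e2, D.hα])
  have e : pullback.lift D.a.left D.α.left (by rw [Over.w D.a, Over.w D.α]) =
      (h.left : D.A.left ⟶ pullback U.hom U.hom) := by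
    apply pullback.hom_ext
    · rw [pullback.lift_fst]; exact (congrArg (fun f => f.left) h₁).symm
    · rw [pullback.lift_snd]; exact (congrArg (fun f => f.left) h₂).symm
  rw [e]
  exact hQh

end Groth.L24.Slice
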