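import Groth.Agent.L24.Boot.FQCoord
import Mathlib.RingTheory.RingHom.QuasiFinite

/-!
Families quasi-finite over their product with the chart have flat quasi-finite coordinates.
-/

set_option autoImplicit false
set_option backward.isDefEq.respectTransparency false
set_option backward.isDefEq.respectTransparency.types false

universe u

open CategoryTheory CategoryTheory.Limits AlgebraicGeometry TensorProduct

noncomputable section

namespace Groth.L24.Slice

open Groth.L24.Boot

section Algebra

variable {k B C : Type u} [Field k] [CommRing B] [CommRing C] [Algebra k C]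

/-- A field quasi-finite over a subfield generated by `β` has a finite transcendence basis in the image of `β`. -/
theorem exists_basis_of_quasiFinite {L : Type u} [Field L] [Algebra k L] [Algebra.EssFiniteType k L]
    (β : B →+* L) (h : (pairMap (A := k) β).toRingHom.QuasiFinite) :
    ∃ (d : ℕ) (b : ULift.{u} (Fin d) → B), IsTranscendenceBasis k (β ∘ b) := by
  let K0 := IntermediateField.adjoin k (Set.range β)
  let β0 : B →+* K0 :=
    β.codRestrict K0 fun b => IntermediateField.subset_adjoin k _ ⟨b, rfl⟩
  have e : (pairMap (A := k) β).toRingHom = (algebraMap K0 L).comp (pairMap (A := k) β0).toRingHom := by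
    refine RingHom.ext fun x => ?_
    induction x with
    | zero => simp
    | tmul a b => simp [pairMap, β0]
    | add a b ha hb => simp only [map_add, ha, hb]
  have hK : Algebra.QuasiFinite K0 L := by
    rw [e] at h
    algebraize [(pairMap (A := k) β0).toRingHom, (algebraMap K0 L).comp (pairMap (A := k) β0).toRingHom]
    have : IsScalarTower (k ⊗[ℤ] B) K0 L := IsScalarTower.of_algebraMap_eq fun _ => rfl
    exact Algebra.QuasiFinite.of_restrictScalars (k ⊗[ℤ] B) K0 L
  have : Algebra.EssFiniteType K0 L := Algebra.EssFiniteType.of_comp k K0 L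
  have : Module.Finite K0 L := Module.Finite.of_quasiFinite
  have halg : Algebra.IsAlgebraic (Algebra.adjoin k (Set.range β)) L :=
    IntermediateField.isAlgebraic_adjoin_iff_top.1 (inferInstance : Algebra.IsAlgebraic K0 L)
  obtain ⟨s, hs, hb⟩ := exists_isTranscendenceBasis_subset (R := k) (Set.range β)
  have hfin : s.Finite := Cardinal.lt_aleph0_iff_set_finite.1
    (hb.cardinalMk_eq_trdeg.trans_lt (finTrdeg_iff_trdeg.1 inferInstance))
  have := hfin.fintype
  let e' := (Fintype.equivFin s).trans Equiv.ulift.{u, 0}.symm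
  have hs' : ∀ i, ∃ b, β b = (e'.symm i : L) := fun i => hs (e'.symm i).2
  choose b hb' using hs'
  refine ⟨_, b, ?_⟩
  rw [show β ∘ b = (fun x : s => (x : L)) ∘ e'.symm from funext hb']
  exact hb.comp_equiv e'.symm

/-- Coordinates from `β` make an algebra quasi-finite over `k ⊗ B` flat and quasi-finite at a minimal prime. -/
theorem exists_lqfCoords [Algebra.FiniteType k C] [Nontrivial C] (β : B →+* C)
    (h : (pairMap (A := k) β).toRingHom.QuasiFinite) :
    ∃ (P : Ideal C) (_ : P.IsPrime) (d : ℕ) (b : ULift.{u} (Fin d) → B),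
      letI := (MvPolynomial.aeval (R := k) (β ∘ b)).toRingHom.toAlgebra
      Module.Flat (MvPolynomial (ULift.{u} (Fin d)) k) (Localization.AtPrime P) ∧
        Algebra.QuasiFinite (MvPolynomial (ULift.{u} (Fin d)) k) (Localization.AtPrime P) := by
  obtain ⟨M, hM⟩ := Ideal.exists_maximal C
  obtain ⟨P, hP, -⟩ := Ideal.exists_minimalPrimes_le (bot_le : ⊥ ≤ M)
  have hPp : P.IsPrime := Ideal.IsMinimalPrime.isPrime hP
  have : IsNoetherianRing C := Algebra.FiniteType.isNoetherianRing k C
  let Cp := Localization.AtPrime P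
  have : Algebra.EssFiniteType C Cp := Algebra.EssFiniteType.of_isLocalization Cp P.primeCompl
  have : Algebra.EssFiniteType k Cp := Algebra.EssFiniteType.comp k C Cp
  let L := IsLocalRing.ResidueField Cp
  let res : Cp →ₐ[k] L := IsScalarTower.toAlgHom k Cp L
  have hres : Function.Surjective res := IsLocalRing.residue_surjective
  have : Algebra.FiniteType Cp L := Algebra.FiniteType.of_surjective (Algebra.ofId Cp L) hres
  have : Algebra.EssFiniteType k L := Algebra.EssFiniteType.comp k Cp L
  let q : C →ₐ[k] L := res.comp (IsScalarTower.toAlgHom k C Cp)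
  have hq : (pairMap (A := k) (q.toRingHom.comp β)).toRingHom.QuasiFinite := by
    have e : (pairMap (A := k) (q.toRingHom.comp β)).toRingHom = q.toRingHom.comp (pairMap (A := k) β).toRingHom := by
      refine RingHom.ext fun x => ?_
      induction x with
      | zero => simp
      | tmul a b => simp [pairMap]
      | add a b ha hb => simp only [map_add, ha, hb]
    rw [e]
    have h1 : (algebraMap C Cp).QuasiFinite :=
      RingHom.quasiFinite_algebraMap.2 (Algebra.QuasiFinite.of_isLocalization P.primeCompl)
    have h2 : (algebraMap Cp L).QuasiFinite := RingHom.quasiFinite_algebraMap.2 inferInstance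
    exact RingHom.QuasiFinite.stableUnderComposition _ _ h
      (RingHom.QuasiFinite.stableUnderComposition _ _ h1 h2)
  obtain ⟨d, b, hb⟩ := exists_basis_of_quasiFinite (q.toRingHom.comp β) hq
  refine ⟨P, hPp, d, b, ?_⟩
  let := (MvPolynomial.aeval (R := k) (β ∘ b)).toRingHom.toAlgebra
  let R := MvPolynomial (ULift.{u} (Fin d)) k
  let F := FractionRing R
  let ev : R →ₐ[k] Cp := (IsScalarTower.toAlgHom k C Cp).comp (MvPolynomial.aeval (β ∘ b))
  have hev : res.comp ev = MvPolynomial.aeval ((q.toRingHom.comp β) ∘ b) := by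
    ext i; simp [ev, q]
  have hunit : ∀ y : nonZeroDivisors R, IsUnit (ev y) := fun y => by
    rw [← IsLocalRing.residue_ne_zero_iff_isUnit]
    show (res.comp ev) y ≠ 0
    rw [hev]
    exact (map_ne_zero_iff _ hb.1).2 (nonZeroDivisors.ne_zero y.2)
  let ψ : F →ₐ[k] Cp := IsLocalization.liftAlgHom hunit
  let := ψ.toRingHom.toAlgebra
  have htR : IsScalarTower R F Cp := IsScalarTower.of_algebraMap_eq fun x => by
    show ev x = ψ _
    exact (IsLocalization.lift_eq hunit x).symm
  have htk : IsScalarTower k F Cp := IsScalarTower.of_algebraMap_eq fun x => (ψ.commutes x).symm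
  have htL : IsScalarTower k F L := IsScalarTower.of_algebraMap_eq fun x => by
    show _ = res (ψ _)
    rw [ψ.commutes, res.commutes]
  have : Algebra.EssFiniteType F L := Algebra.EssFiniteType.of_comp k F L
  have : Algebra.IsAlgebraic R L := by
    refine ⟨fun x => ?_⟩
    have := hb.isAlgebraic.isAlgebraic x
    obtain ⟨p, hp0, hp⟩ := this
    let e := hb.1.aevalEquiv
    refine ⟨p.map e.symm.toRingHom, (Polynomial.map_ne_zero_iff e.symm.injective).2 hp0, ?_⟩
    have key : (algebraMap R L).comp e.symm.toRingHom = algebraMap (Algebra.adjoin k (Set.range ((q.toRingHom.comp β) ∘ b))) L := by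
      refine RingHom.ext fun y => ?_
      obtain ⟨z, rfl⟩ := e.surjective y
      show (algebraMap R L) (e.symm (e z)) = ((e z : Algebra.adjoin k _) : L)
      rw [e.symm_apply_apply]
      refine Eq.trans ?_ (hb.1.algebraMap_aevalEquiv z).symm
      exact DFunLike.congr_fun hev z
    rw [Polynomial.aeval_def, Polynomial.eval₂_map]
    exact (congrArg (fun f => Polynomial.eval₂ f x p) key).trans hp
  have : IsScalarTower R F L := IsScalarTower.of_algebraMap_eq fun x => by
    show res _ = res (ψ _)
    exact congrArg res (IsLocalization.lift_eq hunit x).symm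
  have : Algebra.IsAlgebraic F L := Algebra.IsAlgebraic.extendScalars (IsFractionRing.injective R F)
  have : Module.Finite F L := Algebra.finite_of_essFiniteType_of_isAlgebraic
  have : Ring.KrullDimLE 0 Cp := .of_isLocalization _ hP _
  have : Module.Finite F Cp := by
    refine Module.finite_of_surjective_of_ker_le_nilradical (IsScalarTower.toAlgHom F Cp L) hres ?_
      (IsNoetherian.noetherian _)
    rw [Ring.KrullDimLE.nilradical_eq_maximalIdeal]
    exact IsLocalRing.ker_residue.le
  exact ⟨Module.Flat.trans R F Cp, Algebra.QuasiFinite.trans R F Cp⟩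

end Algebra

variable {X Y U : Scheme.{u}}

/-- A nonempty family over a field, quasi-finite over its product with `U`, has a good point. -/
theorem exists_fgood_lqf {k : Type u} [Field k] (f : Y ⟶ Spec (CommRingCat.of k)) [LocallyOfFinitePresentation f]
    (y : Y ⟶ U) (hfu : LocallyQuasiFinite
      (pullback.lift f y (terminal.hom_ext _ _) : Y ⟶ pullback (terminal.from (Spec (CommRingCat.of k))) (terminal.from U)))
    (x : Y) :
    ∃ (V : U.Opens) (_ : IsAffineOpen V) (d : ℕ) (b : ULift.{u} (Fin d) → Γ(U, V)) (x' : Y),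
      FGood (coordMap V b) f y x' := by
  obtain ⟨V, hV, hxV, -⟩ := exists_affine_mem (y x) ⊤ trivial
  obtain ⟨W, hW, hxW, hWV⟩ := exists_affine_mem x (y ⁻¹ᵁ V) hxV
  obtain ⟨φ, hφ⟩ := Spec.map_surjective (hW.fromSpec ≫ f)
  have hft : φ.hom.FiniteType := by
    rw [← HasRingHomProperty.Spec_iff (P := @LocallyOfFiniteType), hφ]
    infer_instance
  algebraize [φ.hom]
  let C := Γ(Y, W)
  let β := (y.appLE V W hWV).hom
  have hne : Nonempty (Spec C) := ⟨hW.primeIdealOf ⟨x, hxW⟩⟩
  have : Nontrivial C := PrimeSpectrum.nonempty_iff_nontrivial.1 hne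
  have hfu' : (pairMap (A := k) β).toRingHom.QuasiFinite := by
    let φ2 := CommRingCat.ofHom (pairMap (A := k) β).toRingHom
    let J : Spec (CommRingCat.of (k ⊗[ℤ] Γ(U, V))) ⟶ pullback (terminal.from (Spec (CommRingCat.of k))) (terminal.from U) :=
      pullback.lift
        (Spec.map (CommRingCat.ofHom (Algebra.TensorProduct.includeLeftRingHom)))
        (Spec.map (CommRingCat.ofHom (Algebra.TensorProduct.includeRight :
          Γ(U, V) →ₐ[ℤ] k ⊗[ℤ] Γ(U, V)).toRingHom) ≫ hV.fromSpec) (terminal.hom_ext _ _)
    have e : Spec.map φ2 ≫ J = hW.fromSpec ≫ pullback.lift f y (terminal.hom_ext _ _) := by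
      apply pullback.hom_ext
      · simp only [J, Category.assoc, pullback.lift_fst]
        rw [← hφ, ← Spec.map_comp]
        congr 1
        ext a
        show pairMap β (a ⊗ₜ 1) = φ.hom a
        simp [pairMap, RingHom.algebraMap_toAlgebra]
      · simp only [J, Category.assoc, pullback.lift_snd]
        rw [← Category.assoc, ← Spec.map_comp, ← IsAffineOpen.SpecMap_appLE_fromSpec y hV hW hWV]
        congr 2
        ext b
        show pairMap β ((1 : k) ⊗ₜ b) = _
        simp [pairMap, β]
    have : LocallyQuasiFinite (hW.fromSpec ≫ pullback.lift f y (terminal.hom_ext _ _)) :=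
      MorphismProperty.comp_mem _ _ _ (inferInstance : LocallyQuasiFinite hW.fromSpec) hfu
    rw [← e] at this
    have : LocallyQuasiFinite (Spec.map φ2) := LocallyQuasiFinite.of_comp (Spec.map φ2) J
    exact HasRingHomProperty.Spec_iff.1 this
  obtain ⟨P, hP, d, b, hflat, hqf⟩ := exists_lqfCoords (k := k) β hfu'
  refine ⟨V, hV, d, b, hW.fromSpec ⟨P, hP⟩, ?_⟩
  let ae := (MvPolynomial.aeval (R := k) (β ∘ b)).toRingHom
  let j : Spec C ⟶ (y ⁻¹ᵁ V).toScheme :=
    IsOpenImmersion.lift (y ⁻¹ᵁ V).ι hW.fromSpec (by rw [Scheme.Opens.range_ι, hW.range_fromSpec]; exact hWV)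
  have hj : j ≫ (y ⁻¹ᵁ V).ι = hW.fromSpec := IsOpenImmersion.lift_fac _ _ _
  have : IsOpenImmersion j := by
    have : IsOpenImmersion (j ≫ (y ⁻¹ᵁ V).ι) := by rw [hj]; infer_instance
    exact IsOpenImmersion.of_comp j (y ⁻¹ᵁ V).ι
  have he : j ≫ psi (coordMap V b) f y =
      Spec.map (CommRingCat.ofHom ae) ≫ (AffineSpace.SpecIso _ (CommRingCat.of k)).inv := by
    apply aff_hom_ext
    · simp only [psi, Category.assoc, affLift_over, reassoc_of% hj]
      rw [AffineSpace.SpecIso_inv_over, ← Spec.map_comp, ← CommRingCat.ofHom_comp, ← hφ]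
      congr 1
      ext a
      show φ.hom a = ae (MvPolynomial.C a)
      simp [ae, RingHom.algebraMap_toAlgebra]
    · simp only [psi, Category.assoc, affLift_toSpec]
      apply (AffineSpace.toSpecMvPolyIntEquiv _).injective
      ext i
      have e1 : j ≫ (y ∣_ V) = Spec.map (y.appLE V W hWV) ≫ hV.isoSpec.inv := by
        rw [← cancel_mono V.ι]
        simp only [Category.assoc, morphismRestrict_ι, reassoc_of% hj, IsAffineOpen.isoSpec_inv_ι]
        exact (IsAffineOpen.SpecMap_appLE_fromSpec y hV hW hWV).symm
      rw [← Category.assoc, e1, AffineSpace.toSpecMvPolyIntEquiv_comp,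
        AffineSpace.toSpecMvPolyIntEquiv_comp]
      change _ = (Spec.map _).appTop ((AffineSpace.SpecIso _ (CommRingCat.of k)).inv.appTop (AffineSpace.coord _ i))
      rw [AffineSpace.SpecIso_inv_appTop_coord]
      simp only [coordMap, Equiv.apply_symm_apply]
      rw [Scheme.Hom.comp_appTop, CommRingCat.comp_apply, IsAffineOpen.isoSpec_inv_appTop,
        CommRingCat.comp_apply]
      rw [← CommRingCat.comp_apply V.topIso.inv, Iso.inv_hom_id, CommRingCat.id_apply,
        ← CommRingCat.comp_apply, ← Scheme.ΓSpecIso_inv_naturality, CommRingCat.comp_apply,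
        ← CommRingCat.comp_apply _ ((Spec.map _).appTop), ← Scheme.ΓSpecIso_inv_naturality,
        CommRingCat.comp_apply]
      exact congrArg (Scheme.ΓSpecIso C).inv
        (MvPolynomial.aeval_X (R := k) (fun i => β (b i)) i).symm
  have : LocallyOfFiniteType (Spec.map (CommRingCat.ofHom ae)) := by
    have : LocallyOfFiniteType (Spec.map (CommRingCat.ofHom ae) ≫ Spec.map (CommRingCat.ofHom (MvPolynomial.C (σ := ULift.{u} (Fin d)) (R := k)))) := by
      rw [← Spec.map_comp, HasRingHomProperty.Spec_iff (P := @LocallyOfFiniteType)]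
      have hcomp : ae.comp (MvPolynomial.C (σ := ULift.{u} (Fin d)) (R := k)) = φ.hom := by
        ext a
        simp [ae, RingHom.algebraMap_toAlgebra]
      show (ae.comp (MvPolynomial.C (σ := ULift.{u} (Fin d)) (R := k))).FiniteType
      rw [hcomp]
      exact hft
    exact locallyOfFiniteType_of_comp _ (Spec.map (CommRingCat.ofHom (MvPolynomial.C (σ := ULift.{u} (Fin d)) (R := k))))
  have hfq := fq_specMap (CommRingCat.ofHom ae) ⟨P, hP⟩ hflat hqf (AffineSpace.SpecIso _ (CommRingCat.of k)).inv
  rw [← he] at hfq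
  have hx := (fq_comp_etale j (psi (coordMap V b) f y) ⟨P, hP⟩).2 hfq
  have hm : hW.fromSpec ⟨P, hP⟩ = (j ⟨P, hP⟩).1 := by
    rw [← hj, Scheme.Hom.comp_apply]; rfl
  refine ⟨by rw [hm]; exact (j ⟨P, hP⟩).2, ?_⟩
  convert hx using 2
  exact Subtype.ext hm

end Groth.L24.Slice
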