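import Groth.Agent.L24.Slice.Arr
import Groth.Agent.L24.Boot.FQRel

/-!
Coordinates that are good at one arrow with a given target are good at all arrows with that target.
-/

set_option autoImplicit false
set_option backward.isDefEq.respectTransparency false
set_option backward.isDefEq.respectTransparency.types false

universe u

open CategoryTheory CategoryTheory.Limits AlgebraicGeometry Opposite AlgSp

noncomputable section

namespace Groth.L24.Slice

variable {S : Scheme.{u}} {U : Over S}

/-- Properties of a family with coordinates at a point that are etale local and satisfy flat descent. -/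
structure LocalProp (Φ : ∀ {Y T : Scheme.{u}}, (Y ⟶ T) → (Y ⟶ U.left) → Y → Prop) : Prop where
  comp : ∀ {Y' Y T : Scheme.{u}} (q : Y' ⟶ Y) [Etale q] (f : Y ⟶ T) [LocallyOfFinitePresentation f]
    (y : Y ⟶ U.left) (x : Y'), Φ f y (q x) ↔ Φ (q ≫ f) (q ≫ y) x
  base : ∀ {Y' Y T' T : Scheme.{u}} {q : Y' ⟶ Y} {f' : Y' ⟶ T'} {f : Y ⟶ T} {h : T' ⟶ T}
    (_ : IsPullback q f' f h) [LocallyOfFinitePresentation f] (y : Y ⟶ U.left) {x : Y'},
    Φ f y (q x) → Φ f' (q ≫ y) x
  desc : ∀ {Y' Y T' T : Scheme.{u}} {q : Y' ⟶ Y} {f' : Y' ⟶ T'} {f : Y ⟶ T} {h : T' ⟶ T}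
    (_ : IsPullback q f' f h) [Flat f] [Flat h] [LocallyOfFinitePresentation f] (y : Y ⟶ U.left) {x : Y'},
    Φ f' (q ≫ y) x → Φ f y (q x)

theorem localProp_good {σ : Type u} [Finite σ] {V : U.left.Opens} (G : V.toScheme ⟶ Groth.L24.Boot.AffZ σ) :
    LocalProp (U := U) (fun f y x => Groth.L24.Boot.Good G f y x) where
  comp q _ f _ y x := Groth.L24.Boot.good_comp G q f y x
  base sq _ y _ hx := Groth.L24.Boot.good_baseChange G sq y hx
  desc sq _ _ _ y _ hx := Groth.L24.Boot.good_of_baseChange G sq y hx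

theorem localProp_fgood {σ : Type u} [Finite σ] {V : U.left.Opens} (G : V.toScheme ⟶ Groth.L24.Boot.AffZ σ) :
    LocalProp (U := U) (fun f y x => Groth.L24.Boot.FGood G f y x) where
  comp q _ f _ y x := Groth.L24.Boot.fgood_comp G q f y x
  base sq _ y _ hx := Groth.L24.Boot.fgood_baseChange G sq y hx
  desc sq _ _ _ y _ hx := Groth.L24.Boot.fgood_descend G sq y hx

variable {P : Sp S} (R : Rel P U) {A : Over S} {r : (yon S).obj A ⟶ P} {a α : A ⟶ U}

set_option maxHeartbeats 1000000 in
/-- Transfer of a local property between arrows with the same target. -/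
theorem transfer {Φ : ∀ {Y T : Scheme.{u}}, (Y ⟶ T) → (Y ⟶ U.left) → Y → Prop} (hΦ : LocalProp (U := U) Φ)
    (hr : RepWith @Etale r) (hrs : RepWith @Surjective r) (ha : r ≫ R.s = (yon S).map a)
    (hα : r ≫ R.t = (yon S).map α) [Flat a.left] [LocallyOfFinitePresentation a.left]
    (x x' : A.left) (hxx : α.left x' = α.left x) (hx' : Φ a.left α.left x') : Φ a.left α.left x := by
  -- pairs with the same target
  let K₀ := pullback α α
  obtain ⟨y, hy1, hy2⟩ := Groth.L24.Boot.exists_point
    ((IsPullback.of_hasPullback α α).map (Over.forget S)) x x' hxx.symm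
  let qt : (yon S).obj K₀ ⟶ R.Q := R.sq_t.lift ((yon S).map (pullback.fst α α) ≫ r)
    ((yon S).map (pullback.snd α α) ≫ r) (by
      rw [Category.assoc, hα, Category.assoc, hα, ← Functor.map_comp, ← Functor.map_comp, pullback.condition])
  let g₀ : (yon S).obj K₀ ⟶ P := qt ≫ R.p1
  have sqL := hr.1.isPullback g₀
  let L := hr.1.pullback g₀
  let l₀ : L ⟶ K₀ := hr.1.snd g₀
  obtain ⟨u, hu⟩ := (yon S).map_surjective (hr.1.fst g₀)
  have hl₀s : Surjective l₀.left := hrs.2 g₀ (hr.1.fst g₀) l₀ sqL
  rw [← hu] at sqL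
  obtain ⟨z, hz⟩ := l₀.left.surjective y
  -- composable pairs
  let X₂ := pullback α a
  let qd : (yon S).obj X₂ ⟶ R.Q := R.sq_δ.lift ((yon S).map (pullback.fst α a) ≫ r)
    ((yon S).map (pullback.snd α a) ≫ r) (by
      rw [Category.assoc, hα, Category.assoc, ha, ← Functor.map_comp, ← Functor.map_comp, pullback.condition])
  let g₂ : (yon S).obj X₂ ⟶ P := qd ≫ R.p2
  have sqM := hr.1.isPullback g₂
  let M := hr.1.pullback g₂
  let m₂ : M ⟶ X₂ := hr.1.snd g₂
  obtain ⟨w, hw⟩ := (yon S).map_surjective (hr.1.fst g₂)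
  have hm₂e : Etale m₂.left := hr.2 g₂ (hr.1.fst g₂) m₂ sqM
  rw [← hw] at sqM
  have hwa : w ≫ a = m₂ ≫ pullback.fst α a ≫ a := (yon S).map_injective (by
    have h1 : (yon S).map w ≫ r = (yon S).map m₂ ≫ g₂ := sqM.w
    rw [Functor.map_comp, ← ha, ← Category.assoc, h1]
    simp only [g₂, Category.assoc, ← R.sq_s.w, qd, IsPullback.lift_fst_assoc]
    simp only [ha, Functor.map_comp])
  have hwα : w ≫ α = m₂ ≫ pullback.snd α a ≫ α := (yon S).map_injective (by
    have h1 : (yon S).map w ≫ r = (yon S).map m₂ ≫ g₂ := sqM.w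
    rw [Functor.map_comp, ← hα, ← Category.assoc, h1]
    simp only [g₂, Category.assoc, R.sq_t.w, qd, IsPullback.lift_snd_assoc]
    simp only [hα, Functor.map_comp])
  -- pairs with the same source
  let μ : M ⟶ pullback a a := pullback.lift (m₂ ≫ pullback.fst α a) w (by rw [Category.assoc, hwa])
  let qs : (yon S).obj (pullback a a) ⟶ R.Q := R.sq_s.lift ((yon S).map (pullback.fst a a) ≫ r)
    ((yon S).map (pullback.snd a a) ≫ r) (by
      rw [Category.assoc, ha, Category.assoc, ha, ← Functor.map_comp, ← Functor.map_comp, pullback.condition])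
  let g₁ : (yon S).obj (pullback a a) ⟶ P := qs ≫ R.δ
  have hX₂ := (IsPullback.of_hasPullback α a).map (yon S)
  have hX₁ := (IsPullback.of_hasPullback a a).map (yon S)
  have hμ₁ : (yon S).map μ ≫ (yon S).map (pullback.fst a a) = (yon S).map m₂ ≫ (yon S).map (pullback.fst α a) := by
    rw [← Functor.map_comp, ← Functor.map_comp, pullback.lift_fst]
  have hμ₂ : (yon S).map μ ≫ (yon S).map (pullback.snd a a) = (yon S).map w := by
    rw [← Functor.map_comp, pullback.lift_snd]
  have hμq : (yon S).map μ ≫ qs = (yon S).map m₂ ≫ qd := by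
    apply R.sq_s.hom_ext
    · simp only [qs, qd, Category.assoc, IsPullback.lift_fst]
      rw [reassoc_of% hμ₁]
    · simp only [qs, Category.assoc, IsPullback.lift_snd]
      rw [reassoc_of% hμ₂]
      exact sqM.w
  have sqμ : IsPullback ((yon S).map (m₂ ≫ pullback.snd α a)) ((yon S).map μ) r g₁ := by
    refine IsPullback.mk' ?_ (fun Z φ φ' h1 h2 => ?_) ?_
    · simp only [g₁, reassoc_of% hμq, qd, IsPullback.lift_snd, Functor.map_comp, Category.assoc]
    · have e1 := h2 =≫ (yon S).map (pullback.fst a a)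
      have e2 := h2 =≫ (yon S).map (pullback.snd a a)
      simp only [Category.assoc, hμ₁] at e1
      simp only [Category.assoc, hμ₂] at e2
      refine sqM.hom_ext e2 (hX₂.hom_ext ?_ ?_)
      · simpa only [Category.assoc] using e1
      · simpa only [Category.assoc, ← Functor.map_comp] using h1
    · intro Z z0 z1 hz
      let c := hX₂.lift (z1 ≫ (yon S).map (pullback.fst a a)) z0 (by
        have := hz =≫ R.s
        simp only [g₁, Category.assoc, ← R.sq_δ.w, qs, IsPullback.lift_fst_assoc, hα, ha] at this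
        rw [Category.assoc]
        exact this.symm)
      have hc : c ≫ qd = z1 ≫ qs := by
        apply R.sq_δ.hom_ext
        · simp only [qd, qs, Category.assoc, IsPullback.lift_fst]
          rw [← Category.assoc, hX₂.lift_fst, Category.assoc]
        · simp only [qd, Category.assoc, IsPullback.lift_snd]
          rw [← Category.assoc, hX₂.lift_snd, hz]
      refine ⟨sqM.lift (z1 ≫ (yon S).map (pullback.snd a a)) c ?_, ?_, ?_⟩
      · simp only [g₂, reassoc_of% hc, qs, IsPullback.lift_snd, Category.assoc]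
      · rw [(yon S).map_comp m₂ (pullback.snd α a), ← Category.assoc, sqM.lift_snd, hX₂.lift_snd]
      · refine hX₁.hom_ext ?_ ?_
        · rw [Category.assoc, hμ₁, ← Category.assoc, sqM.lift_snd, hX₂.lift_fst]
        · rw [Category.assoc, hμ₂, sqM.lift_fst]
  have hμe : Etale μ.left := hr.2 g₁ ((yon S).map (m₂ ≫ pullback.snd α a)) μ sqμ
  -- the point of `M`
  obtain ⟨v, hv⟩ := (yon S).map_surjective (hX₂.lift ((yon S).map u) ((yon S).map (l₀ ≫ pullback.snd α α)) (by
    have h1 : (yon S).map u ≫ r = (yon S).map l₀ ≫ g₀ := sqL.w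
    rw [← hα, ← Category.assoc, h1, ← ha, Functor.map_comp]
    simp only [g₀, Category.assoc, R.sq_δ.w, qt, IsPullback.lift_snd_assoc]))
  have hv₁ : (yon S).map v ≫ (yon S).map (pullback.fst α a) = (yon S).map u := by rw [hv, hX₂.lift_fst]
  have hv₂ : (yon S).map v ≫ (yon S).map (pullback.snd α a) = (yon S).map (l₀ ≫ pullback.snd α α) := by
    rw [hv, hX₂.lift_snd]
  have hvq : (yon S).map v ≫ qd = (yon S).map l₀ ≫ qt := by
    apply R.sq_δ.hom_ext
    · simp only [qd, Category.assoc, IsPullback.lift_fst]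
      rw [reassoc_of% hv₁]
      exact sqL.w
    · simp only [qd, qt, Category.assoc, IsPullback.lift_snd]
      rw [reassoc_of% hv₂, Functor.map_comp, Category.assoc]
  obtain ⟨e, he⟩ := (yon S).map_surjective (sqM.lift ((yon S).map (l₀ ≫ pullback.fst α α)) ((yon S).map v) (by
    simp only [g₂, reassoc_of% hvq, qt, IsPullback.lift_fst, Functor.map_comp, Category.assoc]))
  have hew : e ≫ w = l₀ ≫ pullback.fst α α := (yon S).map_injective (by rw [Functor.map_comp, he, sqM.lift_fst])
  have hem : e ≫ m₂ = v := (yon S).map_injective (by rw [Functor.map_comp, he, sqM.lift_snd])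
  let m := e.left z
  have hsnd₂ : (pullback.snd α a).left (m₂.left m) = x' := by
    have h1 : e ≫ m₂ ≫ pullback.snd α a = l₀ ≫ pullback.snd α α := by
      rw [← Category.assoc, hem]
      exact (yon S).map_injective (by rw [Functor.map_comp, hv₂])
    rw [← Scheme.Hom.comp_apply, ← Scheme.Hom.comp_apply, ← Over.comp_left, ← Over.comp_left, h1,
      Over.comp_left, Scheme.Hom.comp_apply, hz]
    exact hy2
  have hwm : w.left m = x := by
    rw [← Scheme.Hom.comp_apply, ← Over.comp_left, hew, Over.comp_left, Scheme.Hom.comp_apply, hz]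
    exact hy1
  -- transfer
  have sq₂ : IsPullback (pullback.snd α a).left (pullback.fst α a).left a.left α.left :=
    ((IsPullback.of_hasPullback α a).map (Over.forget S)).flip
  have : LocallyOfFinitePresentation (pullback.fst α a).left :=
    MorphismProperty.of_isPullback sq₂ (inferInstance : LocallyOfFinitePresentation a.left)
  have sqa : IsPullback (pullback.snd a a).left (pullback.fst a a).left a.left a.left :=
    ((IsPullback.of_hasPullback a a).map (Over.forget S)).flip
  have : LocallyOfFinitePresentation (pullback.fst a a).left :=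
    MorphismProperty.of_isPullback sqa (inferInstance : LocallyOfFinitePresentation a.left)
  have eμ : m₂.left ≫ (pullback.fst α a).left = μ.left ≫ (pullback.fst a a).left ∧
      m₂.left ≫ (pullback.snd α a).left ≫ α.left = μ.left ≫ (pullback.snd a a).left ≫ α.left := by
    constructor
    · simp only [← Over.comp_left, μ, pullback.lift_fst]
    · simp only [← Over.comp_left, μ, pullback.lift_snd_assoc]
      rw [hwα]
  have h2 : Φ (pullback.fst α a).left ((pullback.snd α a).left ≫ α.left) (m₂.left m) :=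
    hΦ.base sq₂ α.left (by rw [hsnd₂]; exact hx')
  rw [hΦ.comp] at h2
  rw [eμ.1, eμ.2, ← hΦ.comp] at h2
  have h3 := hΦ.desc sqa α.left h2
  have hsnd : (pullback.snd a a).left (μ.left m) = x := by
    rw [← Scheme.Hom.comp_apply, ← Over.comp_left, pullback.lift_snd, hwm]
  rwa [hsnd] at h3

end Groth.L24.Slice
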