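import Groth.Agent.L24.Slice.Atlas
import Groth.Agent.L24.Slice.Cover
import Groth.Agent.L24.Slice.Transfer
import Groth.Agent.L24.Slice.LqfCoord

/-!
Slicing smooth charts: etale atlases for unramified diagonals, flat quasi-finite atlases for
quasi-finite diagonals.
-/

set_option autoImplicit false
set_option backward.isDefEq.respectTransparency false
set_option backward.isDefEq.respectTransparency.types false

universe u

open CategoryTheory CategoryTheory.Limits AlgebraicGeometry Opposite AlgSt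

noncomputable section

namespace Groth.L24.Slice

open Groth.L24.St

variable {S : Scheme.{u}} {𝒳 : AlgSt.Cat S} {U : Over S}

theorem exists_pair_factor {A : Scheme.{u}} (a α : A ⟶ U.left) (w : a ≫ U.hom = α ≫ U.hom) :
    ∃ ι : pullback U.hom U.hom ⟶ pullback (terminal.from U.left) (terminal.from U.left), IsImmersion ι ∧
      pullback.lift a α w ≫ ι = pullback.lift a α (terminal.hom_ext _ _) := by
  let e : pullback (U.hom ≫ terminal.from S) (U.hom ≫ terminal.from S) ≅
      pullback (terminal.from U.left) (terminal.from U.left) :=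
    pullback.congrHom (terminal.comp_from U.hom) (terminal.comp_from U.hom)
  refine ⟨pullback.mapDesc U.hom U.hom (terminal.from S) ≫ e.hom, inferInstance, ?_⟩
  apply pullback.hom_ext <;> simp [e, pullback.mapDesc]

set_option maxHeartbeats 1000000 in
/-- An unramified diagonal gives an etale atlas. -/
theorem exists_etale_atlas (hg : FibCat.IsFibGrpd 𝒳.p) (hd : RepByAlgSp1 (FibCat.diag (FibCat.toSelf 𝒳)))
    (hatl : HasAtlas (AlgSp.LocP @Smooth) 𝒳)
    (hΔ : RepByAlgSpWith (AlgSp.LocP (@LocallyOfFiniteType ⊓ @FormallyUnramified)) (FibCat.diag (FibCat.toSelf 𝒳))) :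
    HasAtlas (AlgSp.LocP @Etale) 𝒳 := by
  classical
  obtain ⟨U, x, hx, hxs⟩ := hatl
  obtain ⟨D⟩ := exists_relChart hg hx hxs
  have := D.smooth_a
  have := D.smooth_α
  have := D.surj_a
  have := D.surj_α
  obtain ⟨ι, hι, eι⟩ := exists_pair_factor D.a.left D.α.left (by rw [Over.w D.a, Over.w D.α])
  obtain ⟨h₁, h₂⟩ := pair_prop hg Groth.L23.etLocal_unramified hΔ D
  have hfu : FormallyUnramified (pullback.lift D.a.left D.α.left (terminal.hom_ext _ _) :
      D.A.left ⟶ pullback (terminal.from U.left) (terminal.from U.left)) := by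
    rw [← eι]
    exact MorphismProperty.comp_mem _ _ _ h₂ (inferInstance : FormallyUnramified ι)
  choose V κ hκ G U0 hle hmem hgood using fun u : U.left =>
    show ∃ (V : U.left.Opens) (κ : Type u) (_ : Finite κ) (G : V.toScheme ⟶ Groth.L24.Boot.AffZ κ) (U0 : U.left.Opens),
      U0 ≤ V ∧ u ∈ U0 ∧ ∀ v ∈ U0, ∃ r, D.α.left r = v ∧ Groth.L24.Boot.Good G D.a.left D.α.left r by
    obtain ⟨r, rfl⟩ := D.α.left.surjective u
    exact Groth.L24.Boot.exists_coordChart D.a.left D.α.left hfu r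
  let G0 : ∀ u, (U0 u).toScheme ⟶ Groth.L24.Boot.AffZ (κ u) := fun u => U.left.homOfLE (hle u) ≫ G u
  have hψ : ∀ u, Etale (Groth.L24.Boot.affLift ((D.α.left ⁻¹ᵁ U0 u).ι ≫ D.a.left) ((D.α.left ∣_ U0 u) ≫ G0 u)) :=
    fun u => by
      have := hκ u
      refine Groth.L24.Boot.etale_affLift_of_good (G u) (hle u) D.a.left D.α.left fun z hz => ?_
      obtain ⟨r₀, hr₀, hg₀⟩ := hgood u _ hz
      exact transfer D.R (localProp_good (G u)) D.hr D.hrs D.ha D.hα z r₀ hr₀ hg₀
  have := hκ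
  obtain ⟨W₀, w₀, hs, hQ⟩ := exists_slice D.a.left D.α.left κ U0 G0 (fun u => have := hψ u; inferInstance)
    (fun t => by
      obtain ⟨z, hz⟩ := D.a.left.surjective t
      exact ⟨D.α.left z, z, hz, hmem _⟩)
  obtain ⟨W, z, hz, hzs⟩ := exists_atlas hg hd hx hxs D Groth.L23.etLocal_etale w₀
    (hQ @Etale (fun _ h => h) hψ) hs
  exact ⟨W, z, hz, hzs⟩

/-- Flat, locally quasi-finite and locally of finite presentation. -/
abbrev FQF : MorphismProperty Scheme.{u} := @Flat ⊓ @LocallyOfFinitePresentation ⊓ (@LocallyQuasiFinite ⊓ @LocallyOfFiniteType)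

theorem etLocal_fqf : Groth.L23.EtLocal (FQF : MorphismProperty Scheme.{u}) :=
  (Groth.L23.etLocal_flat.inf Groth.L23.etLocal_lfp).inf Groth.L23.etLocal_lqfLft

set_option maxHeartbeats 1000000 in
/-- A quasi-finite diagonal gives a flat quasi-finite atlas of finite presentation. -/
theorem exists_lqf_atlas (hg : FibCat.IsFibGrpd 𝒳.p) (hd : RepByAlgSp1 (FibCat.diag (FibCat.toSelf 𝒳)))
    (hatl : HasAtlas (AlgSp.LocP @Smooth) 𝒳)
    (hΔ : RepByAlgSpWith (AlgSp.LocP (@LocallyQuasiFinite ⊓ @LocallyOfFiniteType)) (FibCat.diag (FibCat.toSelf 𝒳))) :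
    ∃ (W : Over S) (z : FibCat.overCat W ⥤ᵇ 𝒳),
      RepByAlgSpWith (AlgSp.LocP FQF) z ∧ RepByAlgSpWith AlgSp.IsSurjectiveMor z := by
  classical
  obtain ⟨U, x, hx, hxs⟩ := hatl
  obtain ⟨D⟩ := exists_relChart hg hx hxs
  have := D.smooth_a
  have := D.smooth_α
  have := D.surj_a
  have := D.surj_α
  obtain ⟨ι, hι, eι⟩ := exists_pair_factor D.a.left D.α.left (by rw [Over.w D.a, Over.w D.α])
  obtain ⟨h₁, h₂⟩ := pair_prop hg Groth.L23.etLocal_lqfLft hΔ D
  obtain ⟨δ, hδ⟩ : ∃ δ : D.A.left ⟶ pullback (terminal.from U.left) (terminal.from U.left),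
      δ = pullback.lift D.a.left D.α.left (terminal.hom_ext _ _) := ⟨_, rfl⟩
  have hqf : LocallyQuasiFinite δ := by
    rw [hδ, ← eι]
    exact MorphismProperty.comp_mem _ _ _ h₁ (inferInstance : LocallyQuasiFinite ι)
  -- good coordinates over every point
  have hpt : ∀ t : U.left, ∃ (V : U.left.Opens) (_ : IsAffineOpen V) (d : ℕ) (b : ULift.{u} (Fin d) → Γ(U.left, V))
      (z : D.A.left), D.a.left z = t ∧
        Groth.L24.Boot.FGood (Groth.L24.Boot.coordMap V b) D.a.left D.α.left z := by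
    intro t₀
    obtain ⟨x₀, rfl⟩ := D.a.left.surjective t₀
    let t := D.a.left x₀
    let h := U.left.fromSpecResidueField t
    let q := pullback.fst D.a.left h
    let f' := pullback.snd D.a.left h
    let δ' : pullback D.a.left h ⟶ pullback (terminal.from (Spec (U.left.residueField t))) (terminal.from U.left) :=
      pullback.lift f' (q ≫ D.α.left) (terminal.hom_ext _ _)
    have hqf' : LocallyQuasiFinite δ' := by
      let m : pullback (terminal.from (Spec (U.left.residueField t))) (terminal.from U.left) ⟶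
          pullback (terminal.from U.left) (terminal.from U.left) :=
        pullback.lift (pullback.fst _ _ ≫ h) (pullback.snd _ _) (terminal.hom_ext _ _)
      have e : δ' ≫ m = q ≫ δ := by
        rw [hδ]
        apply pullback.hom_ext <;> simp [δ', m, q, f', pullback.condition]
      have : LocallyQuasiFinite (δ' ≫ m) := by
        rw [e]; exact MorphismProperty.comp_mem _ _ _ (inferInstance : LocallyQuasiFinite q) hqf
      exact LocallyQuasiFinite.of_comp δ' m
    obtain ⟨z₀, -, -⟩ := Groth.L24.Boot.exists_point (IsPullback.of_hasPullback D.a.left h) x₀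
      (IsLocalRing.closedPoint (U.left.residueField t)) (Scheme.fromSpecResidueField_apply _ _).symm
    obtain ⟨V, hV, d, b, z, hz⟩ := exists_fgood_lqf (k := U.left.residueField t) f' (q ≫ D.α.left) hqf' z₀
    refine ⟨V, hV, d, b, q z, ?_,
      Groth.L24.Boot.fgood_descend _ (IsPullback.of_hasPullback D.a.left h) D.α.left hz⟩
    rw [← Scheme.Hom.comp_apply, show q ≫ D.a.left = f' ≫ h from pullback.condition, Scheme.Hom.comp_apply]
    exact Scheme.fromSpecResidueField_apply _ _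
  let ι₀ := Σ (V : {V : U.left.Opens // IsAffineOpen V}) (d : ℕ), (ULift.{u} (Fin d) → Γ(U.left, V.1))
  let G : ∀ i : ι₀, i.1.1.toScheme ⟶ Groth.L24.Boot.AffZ (ULift.{u} (Fin i.2.1)) := fun i =>
    Groth.L24.Boot.coordMap i.1.1 i.2.2
  obtain ⟨U0, hle, hmemU⟩ : ∃ (U0 : ι₀ → U.left.Opens) (_ : ∀ i, U0 i ≤ i.1.1),
      ∀ i v, v ∈ U0 i ↔ ∃ r, Groth.L24.Boot.FGood (G i) D.a.left D.α.left r ∧ D.α.left r = v :=
    ⟨fun i => ⟨D.α.left '' {r | Groth.L24.Boot.FGood (G i) D.a.left D.α.left r},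
        D.α.left.isOpenMap _ (Groth.L24.Boot.isOpen_fgood _ _ _)⟩,
      fun i => by rintro _ ⟨r, ⟨hr, -⟩, rfl⟩; exact hr, fun i v => Iff.rfl⟩
  let G0 : ∀ i, (U0 i).toScheme ⟶ Groth.L24.Boot.AffZ (ULift.{u} (Fin i.2.1)) :=
    fun i => U.left.homOfLE (hle i) ≫ G i
  have hψ : ∀ i, Flat (Groth.L24.Boot.affLift ((D.α.left ⁻¹ᵁ U0 i).ι ≫ D.a.left) ((D.α.left ∣_ U0 i) ≫ G0 i)) ∧
      LocallyQuasiFinite (Groth.L24.Boot.affLift ((D.α.left ⁻¹ᵁ U0 i).ι ≫ D.a.left) ((D.α.left ∣_ U0 i) ≫ G0 i)) :=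
    fun i => by
      refine Groth.L24.Boot.flat_lqf_affLift_of_fgood (G i) (hle i) D.a.left D.α.left fun z hz => ?_
      obtain ⟨r₀, hr₀, hr₀'⟩ := (hmemU i _).1 hz
      exact transfer D.R (localProp_fgood (G i)) D.hr D.hrs D.ha D.hα z r₀ hr₀' hr₀
  obtain ⟨W₀, w₀, hs, hQ⟩ := exists_slice D.a.left D.α.left (fun i : ι₀ => ULift.{u} (Fin i.2.1)) U0 G0
    (fun i => have := (hψ i).1; inferInstance)
    (fun t => by
      obtain ⟨V, hV, d, b, z, hz, hzg⟩ := hpt t
      exact ⟨⟨⟨V, hV⟩, d, b⟩, z, hz, (hmemU _ _).2 ⟨z, hzg, rfl⟩⟩)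
  have h3 : FQF (pullback.fst D.α.left w₀ ≫ D.a.left) := by
    refine ⟨⟨hQ @Flat (fun f _ => inferInstance) (fun i => (hψ i).1),
      hQ @LocallyOfFinitePresentation (fun f _ => inferInstance) (fun i => inferInstance)⟩,
      hQ @LocallyQuasiFinite (fun f _ => Groth.L23.locallyQuasiFinite_of_unramified f) (fun i => (hψ i).2),
      hQ @LocallyOfFiniteType (fun f _ => inferInstance) (fun i => inferInstance)⟩
  exact exists_atlas hg hd hx hxs D etLocal_fqf w₀ h3 hs

end Groth.L24.Slice
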